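import Cfsg.Agent.Coprime.Action
import Cfsg.Agent.OddChar.PF.OddOrder
import Cfsg.Agent.Quadratic.StableQd

/-!
Coprime operator groups given by a homomorphism into the automorphism group.
-/

set_option autoImplicit false
set_option linter.style.haveILetI false
set_option linter.unusedSectionVars false

namespace Cfsg.Lib.CoprimeZJ

open scoped Pointwise

variable {A G : Type*} [Group A] [Group G]

/-- fixed points -/
def fixedPts (φ : A →* MulAut G) : Subgroup G where
  carrier := {g | ∀ a, φ a g = g}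
  one_mem' := fun a => map_one (φ a)
  mul_mem' := fun {g h} hg hh a => by rw [map_mul, hg a, hh a]
  inv_mem' := fun {g} hg a => by rw [map_inv, hg a]

/-- invariance under the operators -/
def Inv' (φ : A →* MulAut G) (B : Subgroup G) : Prop := ∀ a, ∀ x ∈ B, φ a x ∈ B

theorem Inv'.map_eq {φ : A →* MulAut G} {B : Subgroup G} (h : Inv' φ B) (a : A) :
    B.map (φ a).toMonoidHom = B := by
  refine le_antisymm ?_ fun x hx => ⟨φ a⁻¹ x, h a⁻¹ x hx, ?_⟩
  · rintro _ ⟨x, hx, rfl⟩
    exact h a x hx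
  · show φ a (φ a⁻¹ x) = x
    rw [← MulAut.mul_apply, ← map_mul, mul_inv_cancel, map_one, MulAut.one_apply]

theorem Inv'.of_characteristic (φ : A →* MulAut G) (B : Subgroup G) [hB : B.Characteristic] :
    Inv' φ B := fun a x hx => (Subgroup.characteristic_iff_map_eq.mp hB (φ a)).le ⟨x, hx, rfl⟩

theorem Inv'.inf {φ : A →* MulAut G} {B C : Subgroup G} (hB : Inv' φ B) (hC : Inv' φ C) :
    Inv' φ (B ⊓ C) := fun a x hx => ⟨hB a x hx.1, hC a x hx.2⟩

theorem Inv'.centralizer {φ : A →* MulAut G} {B : Subgroup G} (hB : Inv' φ B) :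
    Inv' φ (Subgroup.centralizer (B : Set G)) := fun a x hx => by
  refine Subgroup.mem_centralizer_iff.mpr fun y hy => ?_
  obtain ⟨z, hz, rfl⟩ := (hB.map_eq a).ge hy
  show φ a z * φ a x = φ a x * φ a z
  rw [← map_mul, ← map_mul, Subgroup.mem_centralizer_iff.mp hx z hz]

theorem Inv'.commutator {φ : A →* MulAut G} {B C : Subgroup G} (hB : Inv' φ B) (hC : Inv' φ C) :
    Inv' φ ⁅B, C⁆ := fun a x hx => by
  have : (⁅B, C⁆).map (φ a).toMonoidHom = ⁅B, C⁆ := by
    rw [Subgroup.map_commutator, hB.map_eq, hC.map_eq]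
  exact this.le ⟨x, hx, rfl⟩

theorem Inv'.normalClosure {φ : A →* MulAut G} {B : Subgroup G} (hB : Inv' φ B) :
    Inv' φ (Subgroup.normalClosure (B : Set G)) := fun a x hx => by
  have hle : Subgroup.normalClosure (B : Set G) ≤
      (Subgroup.normalClosure (B : Set G)).comap (φ a).toMonoidHom := by
    haveI := Subgroup.Normal.comap (H := Subgroup.normalClosure (B : Set G)) inferInstance (φ a).toMonoidHom
    exact Subgroup.normalClosure_le_normal fun y hy => Subgroup.subset_normalClosure (hB a y hy)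
  exact hle hx

variable [Finite A] [Finite G]

theorem solvable_or (hcop : (Nat.card A).Coprime (Nat.card G)) :
    Group.IsSolvable A ∨ Group.IsSolvable G := by
  rcases Nat.even_or_odd (Nat.card A) with hA | hA
  · refine Or.inr (Cfsg.Agent.PF.isSolvable_of_odd G ?_)
    rcases Nat.even_or_odd (Nat.card G) with hG | hG
    · have h := Nat.dvd_gcd hA.two_dvd hG.two_dvd
      rw [hcop] at h
      exact absurd h (by norm_num)
    · exact hG
  · exact Or.inl (Cfsg.Agent.PF.isSolvable_of_odd A hA)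

/-- **lifting of fixed points** -/
theorem exists_fixed_lift (φ : A →* MulAut G) (hcop : (Nat.card A).Coprime (Nat.card G))
    {H : Type*} [Group H] (f : G →* H) (hker : Inv' φ f.ker) (g : G) (hg : ∀ a, f (φ a g) = f g) :
    ∃ g' ∈ fixedPts φ, f g' = f g := by
  haveI : Finite (G ⋊[φ] A) := Finite.of_equiv _ SemidirectProduct.equivProd.symm
  let iG : G →* G ⋊[φ] A := SemidirectProduct.inl
  let iA : A →* G ⋊[φ] A := SemidirectProduct.inr
  have key : ∀ a x, iA a * iG x * (iA a)⁻¹ = iG (φ a x) := fun a x => by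
    rw [← map_inv]; exact (SemidirectProduct.inl_aut a x).symm
  set N := f.ker.map iG with hNdef
  have hconj : ∀ a, ∀ x ∈ N, iA a * x * (iA a)⁻¹ ∈ N := by
    rintro a _ ⟨x, hx, rfl⟩
    exact ⟨_, hker a x hx, (key a x).symm⟩
  have hAN : iA.range ≤ Subgroup.normalizer (N : Set _) := by
    rintro _ ⟨a, rfl⟩
    refine Cfsg.Lib.Coprime.mem_normalizer_of_conj_mem (hconj a) fun x hx => ?_
    have := hconj a⁻¹ x hx
    rwa [map_inv, inv_inv] at this
  have hcA : Nat.card iA.range = Nat.card A :=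
    (Nat.card_congr (MonoidHom.ofInjective SemidirectProduct.inr_injective).toEquiv).symm
  have hcN : Nat.card N = Nat.card f.ker :=
    Subgroup.card_map_of_injective SemidirectProduct.inl_injective
  have hcop' : (Nat.card iA.range).Coprime (Nat.card N) := by
    rw [hcA, hcN]
    exact hcop.coprime_dvd_right (Subgroup.card_subgroup_dvd_card _)
  have hkN : iG g ∈ Subgroup.normalizer (N : Set _) := by
    refine Cfsg.Lib.Coprime.mem_normalizer_of_conj_mem ?_ ?_ <;> rintro _ ⟨x, hx, rfl⟩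
    · exact ⟨g * x * g⁻¹, f.normal_ker.conj_mem x hx g, by simp only [map_mul, map_inv]⟩
    · exact ⟨g⁻¹ * x * g, by simpa using f.normal_ker.conj_mem x hx g⁻¹, by simp only [map_mul, map_inv]⟩
  have hfix : ∀ t ∈ iA.range, t * iG g * t⁻¹ * (iG g)⁻¹ ∈ N := by
    rintro _ ⟨a, rfl⟩
    refine ⟨φ a g * g⁻¹, ?_, by rw [key, map_mul, map_inv]⟩
    show φ a g * g⁻¹ ∈ f.ker
    rw [MonoidHom.mem_ker, map_mul, map_inv, hg a, mul_inv_cancel]
  obtain ⟨_, ⟨n, hn, rfl⟩, hc⟩ := Cfsg.Lib.Coprime.exists_fixed_of_commutator_mem hAN hcop'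
    (by
      rcases solvable_or hcop with h | h
      · exact Or.inl (Group.isSolvable_of_surjective iA.rangeRestrict_surjective)
      · exact Or.inr (Group.isSolvable_of_surjective (iG.subgroupMap_surjective f.ker)))
    hkN hfix
  refine ⟨g * n, fun a => SemidirectProduct.inl_injective (φ := φ) ?_, by
    rw [map_mul, (MonoidHom.mem_ker.mp hn), mul_one]⟩
  show iG (φ a (g * n)) = iG (g * n)
  have hc' := Subgroup.mem_centralizer_iff.mp hc (iA a) ⟨a, rfl⟩
  rw [← map_mul] at hc'
  rw [← key, hc', mul_inv_cancel_right]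

/-- sections of the fixed points of an image are sections of the fixed points -/
theorem involves_fixed_of_map {Y : Type*} [Group Y] (φ : A →* MulAut G)
    (hcop : (Nat.card A).Coprime (Nat.card G)) {H : Type*} [Group H] (f : G →* H)
    (hker : Inv' φ f.ker) (T : Subgroup H) (hT : ∀ g ∈ fixedPts φ, f g ∈ T)
    (hT' : ∀ t ∈ T, ∃ g, f g = t ∧ ∀ a, f (φ a g) = t) (h : Cfsg.Involves Y T) :
    Cfsg.Involves Y (fixedPts φ) := by
  let f' : fixedPts φ →* T := (f.comp (fixedPts φ).subtype).codRestrict T fun g => hT g g.2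
  refine Cfsg.Lib.QuadPair.involves_of_surjective (f := f') ?_ h
  rintro ⟨t, ht⟩
  obtain ⟨g, rfl, hg⟩ := hT' t ht
  obtain ⟨g', hg', e⟩ := exists_fixed_lift φ hcop f hker g hg
  exact ⟨⟨g', hg'⟩, Subtype.ext e⟩

variable {N : Subgroup G} [N.Normal]

/-- the action on a quotient -/
def quotAction (φ : A →* MulAut G) (hN : Inv' φ N) : A →* MulAut (G ⧸ N) :=
  MonoidHom.mk' (fun a => QuotientGroup.congr N N (φ a) (hN.map_eq a)) fun a b => by
    refine MulEquiv.ext fun x => ?_
    obtain ⟨g, rfl⟩ := QuotientGroup.mk'_surjective N x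
    show QuotientGroup.mk' N (φ (a * b) g) = QuotientGroup.mk' N (φ a (φ b g))
    rw [map_mul, MulAut.mul_apply]

theorem quotAction_mk (φ : A →* MulAut G) (hN : Inv' φ N) (a : A) (g : G) :
    quotAction φ hN a (QuotientGroup.mk' N g) = QuotientGroup.mk' N (φ a g) := rfl

theorem coprime_quot (hcop : (Nat.card A).Coprime (Nat.card G)) :
    (Nat.card A).Coprime (Nat.card (G ⧸ N)) :=
  hcop.coprime_dvd_right (Subgroup.card_quotient_dvd_card N)

theorem not_involves_quot {Y : Type*} [Group Y] (φ : A →* MulAut G) (hN : Inv' φ N)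
    (hcop : (Nat.card A).Coprime (Nat.card G)) (h : ¬ Cfsg.Involves Y (fixedPts φ)) :
    ¬ Cfsg.Involves Y (fixedPts (quotAction φ hN)) := fun h' => h <| by
  refine involves_fixed_of_map φ hcop (QuotientGroup.mk' N) ?_ _ ?_ ?_ h'
  · rw [QuotientGroup.ker_mk']
    exact hN
  · intro g hg a
    rw [quotAction_mk, hg a]
  · intro t ht
    obtain ⟨g, rfl⟩ := QuotientGroup.mk'_surjective N t
    exact ⟨g, rfl, fun a => (quotAction_mk φ hN a g).symm.trans (ht a)⟩

theorem Inv'.map_mk {φ : A →* MulAut G} {B : Subgroup G} (hB : Inv' φ B) (hN : Inv' φ N) :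
    Inv' (quotAction φ hN) (B.map (QuotientGroup.mk' N)) := by
  rintro a _ ⟨x, hx, rfl⟩
  exact ⟨φ a x, hB a x hx, (quotAction_mk φ hN a x).symm⟩

end Cfsg.Lib.CoprimeZJ
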