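import Cfsg.Agent.CoprimeZJ.Linear
import Cfsg.Agent.CoprimeZJ.Operators

/-!
`p`-stable action on invariant normal `p`-subgroups.
-/

set_option autoImplicit false
set_option linter.style.haveILetI false
set_option linter.unusedSectionVars false

namespace Cfsg.Lib.CoprimeZJ

open Cfsg Cfsg.Lib.QuadPair
open scoped commutatorElement

universe u v

variable {p : ℕ} [Fact p.Prime]

local notation "Y'" => Matrix.ProjectiveSpecialLinearGroup (Fin 2) (ZMod p)

/-- automorphisms of an exponent `p` abelian group as linear maps -/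
def toGL (V : Type*) [CommGroup V] [Module (ZMod p) (Additive V)] :
    MulAut V →* LinearMap.GeneralLinearGroup (ZMod p) (Additive V) :=
  let lin : MulAut V → Module.End (ZMod p) (Additive V) := fun σ =>
    { toFun := fun v => Additive.ofMul (σ (Additive.toMul v))
      map_add' := fun v w => congrArg Additive.ofMul (map_mul σ _ _)
      map_smul' := fun c v => ZMod.map_smul (σ.toMonoidHom.toAdditive) c v }
  have hlin : ∀ σ τ, lin (σ * τ) = lin σ * lin τ := fun _ _ => LinearMap.ext fun _ => rfl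
  have hone : lin 1 = 1 := LinearMap.ext fun _ => rfl
  MonoidHom.mk' (fun σ => ⟨lin σ, lin σ⁻¹, by rw [← hlin, mul_inv_cancel, hone],
    by rw [← hlin, inv_mul_cancel, hone]⟩) fun σ τ => Units.ext (hlin σ τ)

theorem toGL_apply {V : Type*} [CommGroup V] [Module (ZMod p) (Additive V)] (σ : MulAut V) (v : Additive V) :
    (toGL (p := p) V σ : Additive V →ₗ[ZMod p] Additive V) v = Additive.ofMul (σ (Additive.toMul v)) := rfl

theorem toGL_injective {V : Type*} [CommGroup V] [Module (ZMod p) (Additive V)] :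
    Function.Injective (toGL (p := p) V) := fun σ τ h => MulEquiv.ext fun v =>
  Additive.ofMul.injective (congrArg
    (fun g : LinearMap.GeneralLinearGroup (ZMod p) (Additive V) =>
      (g : Additive V →ₗ[ZMod p] Additive V) (Additive.ofMul v)) h)

theorem one_add_pow {R : Type*} [Ring R] {x : R} (hx : x * x = 0) :
    ∀ n : ℕ, (1 + x) ^ n = 1 + n • x
  | 0 => by rw [pow_zero, zero_smul, add_zero]
  | n + 1 => by
    rw [pow_succ, one_add_pow hx n, mul_add, mul_one, add_mul, one_mul, smul_mul_assoc, hx,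
      smul_zero, add_zero, succ_nsmul, add_assoc]

/-- **a quadratic element on an irreducible module is trivial** -/
theorem trivial_of_quadratic (hp5 : 5 ≤ p) {A : Type u} {G : Type v} [Group A] [Group G] [Finite A]
    [Finite G] (φ : A →* MulAut G) (hcop : (Nat.card A).Coprime (Nat.card G))
    (hfix : ¬ Cfsg.Involves Y' (fixedPts φ)) {V : Type*} [CommGroup V] [Finite V] [Nontrivial V]
    (hexp : ∀ v : V, v ^ p = 1) (ρ : G →* MulAut V) (θ : A →* MulAut V)
    (heq : ∀ a g, ρ (φ a g) = θ a * ρ g * (θ a)⁻¹)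
    (hirr : ∀ W : Subgroup V, (∀ g, ∀ w ∈ W, ρ g w ∈ W) → (∀ a, ∀ w ∈ W, θ a w ∈ W) →
      W = ⊥ ∨ W = ⊤)
    {a : G} (hq : ∀ v, ρ a (ρ a v * v⁻¹) = ρ a v * v⁻¹) : ρ a = 1 := by
  classical
  by_contra hne
  letI : Module (ZMod p) (Additive V) := AddCommGroup.zmodModule (n := p) fun v =>
    congrArg Additive.ofMul (hexp (Additive.toMul v))
  haveI : Finite (Additive V) := inferInstanceAs (Finite V)
  haveI : Module.Finite (ZMod p) (Additive V) := Module.Finite.of_finite
  haveI : FiniteDimensional (ZMod p) (Additive V) := Module.Finite.of_finite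
  set R := (toGL (p := p) V).comp ρ with hR
  set T := (toGL (p := p) V).comp θ with hT
  set G' := R.range with hG'
  set Γ := T.range with hΓ
  set H := G' ⊔ Γ with hH
  have hconj : ∀ a g, T a * R g * (T a)⁻¹ = R (φ a g) := fun a g => by
    simp only [hR, hT, MonoidHom.comp_apply, heq, map_mul, map_inv]
  have hnorm : Γ ≤ Subgroup.normalizer (G' : Set _) := by
    rintro _ ⟨b, rfl⟩
    refine Cfsg.Lib.Coprime.mem_normalizer_of_conj_mem ?_ ?_ <;> rintro _ ⟨g, rfl⟩
    · exact ⟨φ b g, (hconj b g).symm⟩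
    · refine ⟨φ b⁻¹ g, ?_⟩
      rw [← hconj b⁻¹ g, map_inv, inv_inv]
  have hcop' : (Nat.card G').Coprime (Nat.card Γ) :=
    (hcop.symm.coprime_dvd_left (Subgroup.card_range_dvd R)).coprime_dvd_right
      (Subgroup.card_range_dvd T)
  -- the quadratic element
  set x₀ : Additive V →ₗ[ZMod p] Additive V := (R a : Additive V →ₗ[ZMod p] Additive V) - 1 with hx₀
  have hx : x₀ * x₀ = 0 := by
    refine LinearMap.ext fun v => ?_
    have e : x₀ v = Additive.ofMul (ρ a (Additive.toMul v) * (Additive.toMul v)⁻¹) := by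
      rw [hx₀, LinearMap.sub_apply, Module.End.one_apply]
      simp only [hR, MonoidHom.comp_apply, toGL_apply, ofMul_mul, ofMul_inv, ofMul_toMul, sub_eq_add_neg]
    rw [Module.End.mul_apply, e, hx₀, LinearMap.sub_apply, Module.End.one_apply, LinearMap.zero_apply, sub_eq_zero]
    exact congrArg Additive.ofMul (hq _)
  have hval : (R a : Additive V →ₗ[ZMod p] Additive V) = 1 + x₀ := by rw [hx₀, add_sub_cancel]
  have hpow : ∀ (g : LinearMap.GeneralLinearGroup (ZMod p) (Additive V)) (y : Additive V →ₗ[ZMod p] Additive V),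
      y * y = 0 → (g : Additive V →ₗ[ZMod p] Additive V) = 1 + y → g ^ p = 1 := fun g y hy hg => by
    refine Units.ext ?_
    rw [Units.val_pow_eq_pow_val, hg, one_add_pow hy, ← Nat.cast_smul_eq_nsmul (ZMod p), ZMod.natCast_self,
      zero_smul, add_zero, Units.val_one]
  have hne' : R a ≠ 1 := fun e => hne (toGL_injective (p := p) (e.trans (map_one _).symm))
  have hpG : p ∣ Nat.card G' := by
    have h := Subgroup.orderOf_dvd_natCard G' (x := R a) ⟨a, rfl⟩
    rwa [orderOf_eq_prime (hpow _ _ hx hval) hne'] at h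
  have hpΓ : Nat.Coprime p (Nat.card Γ) := hcop'.coprime_dvd_left hpG
  have hunip : ∀ (y : Additive V →ₗ[ZMod p] Additive V) (hy : y * y = 0), xu y hy ∈ H → xu y hy ∈ G' := by
    intro y hy hmem
    have hmem' : ((xu y hy : LinearMap.GeneralLinearGroup (ZMod p) (Additive V))) ∈ G' ⊔ Γ := hmem
    rw [← SetLike.mem_coe, Subgroup.coe_mul_of_right_le_normalizer_left G' Γ hnorm] at hmem'
    obtain ⟨g, hg, γ, hγ, e⟩ := Set.mem_mul.mp hmem'
    have hk : ∀ n : ℕ, (g * γ) ^ n * (γ ^ n)⁻¹ ∈ G' := by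
      intro n
      induction n with
      | zero => simp
      | succ n ih =>
        rw [show (g * γ) ^ (n + 1) * (γ ^ (n + 1))⁻¹ = g * (γ * ((g * γ) ^ n * (γ ^ n)⁻¹) * γ⁻¹) by
          rw [pow_succ', pow_succ']; group]
        exact mul_mem hg ((Subgroup.mem_normalizer_iff.mp (hnorm hγ) _).mp ih)
    have h1 := hk p
    rw [e, hpow _ y hy rfl, one_mul, inv_mem_iff] at h1
    have h2 := Cfsg.Lib.Coprime.eq_one_of_coprime hcop' h1 (pow_mem hγ p)
    have h3 : γ = 1 := orderOf_eq_one_iff.mp (Nat.eq_one_of_dvd_coprimes hpΓ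
      (orderOf_dvd_of_pow_eq_one h2) (Subgroup.orderOf_dvd_natCard Γ hγ))
    rw [← e, h3, mul_one]
    exact hg
  have hsemi : Semi H := by
    refine ⟨exists_ne (0 : Additive V), fun W hW _ => ?_⟩
    let W' : Subgroup V := AddSubgroup.toSubgroup' W.toAddSubgroup
    have hW' : ∀ w, w ∈ W' ↔ Additive.ofMul w ∈ W := fun w => Iff.rfl
    rcases hirr W' (fun g w hw => hW _ (Subgroup.mem_sup_left ⟨g, rfl⟩) _ hw)
      (fun b w hw => hW _ (Subgroup.mem_sup_right ⟨b, rfl⟩) _ hw) with h | h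
    · refine Or.inl (eq_bot_iff.mpr fun w hw => ?_)
      have : Additive.toMul w ∈ W' := hw
      rw [h, Subgroup.mem_bot] at this
      exact (Submodule.mem_bot _).mpr (congrArg Additive.ofMul this)
    · exact Or.inr (eq_top_iff.mpr fun w _ => (hW' (Additive.toMul w)).mp (h ▸ Subgroup.mem_top _))
  have S : Setting H G' Γ := ⟨le_sup_left, le_sup_right, hnorm, hcop', hsemi, hunip⟩
  have hfam : Fam H x₀ := ⟨hx, fun c => ⟨R a ^ c.val, pow_mem (Subgroup.mem_sup_left (S := G') (T := Γ) (⟨a, rfl⟩ : R a ∈ R.range)) _, by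
    rw [Units.val_pow_eq_pow_val, hval, one_add_pow hx, ← Nat.cast_smul_eq_nsmul (ZMod p),
      ZMod.natCast_zmod_val]⟩⟩
  have hx0 : x₀ ≠ 0 := fun e => hne' (Units.ext (by rw [hval, e, add_zero, Units.val_one]))
  obtain ⟨a₀, ha₀⟩ := exists_minEl (G := H) (σ := R a) (mem_quadraticElements.mpr ⟨hfam, hx0⟩)
  have h2 : (2 : ZMod p) ≠ 0 := fun e => by
    have := (ZMod.natCast_eq_zero_iff 2 p).mp (by exact_mod_cast e)
    have := Nat.le_of_dvd (by norm_num) this
    omega
  have h3 : Nat.card (ZMod p) ≠ 3 := by rw [Nat.card_zmod]; omega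
  refine hfix (involves_fixed_of_map φ hcop R ?_ _ ?_ ?_ (involves_linear (p := p) (by omega) h2 h3 S ha₀))
  · intro b g hg
    rw [MonoidHom.mem_ker] at hg ⊢
    rw [← hconj, hg, mul_one, mul_inv_cancel]
  · intro g hg
    refine ⟨⟨g, rfl⟩, Subgroup.mem_centralizer_iff.mpr ?_⟩
    rintro _ ⟨b, rfl⟩
    exact mul_inv_eq_iff_eq_mul.mp ((hconj b g).trans (by rw [hg b]))
  · rintro _ ⟨⟨g, rfl⟩, hgc⟩
    refine ⟨g, rfl, fun b => ?_⟩
    rw [← hconj, Subgroup.mem_centralizer_iff.mp hgc _ ⟨b, rfl⟩, mul_inv_cancel_right]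

/-- an invariant normal elementary subgroup inside a nontrivial invariant normal `p`-subgroup, irreducible -/
theorem exists_minimal_elementary {A G : Type*} [Group A] [Group G] [Finite G] (φ : A →* MulAut G)
    {B : Subgroup G} [B.Normal] (hB : IsPGroup p B) (hne : B ≠ ⊥) (hBi : Inv' φ B) :
    ∃ V : Subgroup G, V.Normal ∧ V ≤ B ∧ V ≠ ⊥ ∧ Cfsg.IsElementaryAbelian p V ∧ Inv' φ V ∧
      ∀ W : Subgroup G, W.Normal → Inv' φ W → W ≤ V → W ≠ ⊥ → W = V := by
  classical
  obtain ⟨V₁, hV₁n, hV₁B, hV₁ne, hV₁⟩ := exists_elementary_le hB hne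
  haveI := hV₁n
  let P : Subgroup G → Prop := fun V => V.Normal ∧ V ≤ B ∧ V ≠ ⊥ ∧ Inv' φ V
  obtain ⟨V, ⟨hVn, hVB, hVne, hVi⟩, hmin⟩ : ∃ V, P V ∧ ∀ W, P W → W ≤ V → W = V := by
    obtain ⟨V, hV, hmin⟩ := Set.Finite.exists_minimal (Set.toFinite {V | P V})
      ⟨B, inferInstance, le_rfl, hne, hBi⟩
    exact ⟨V, hV, fun W hW hle => le_antisymm hle (hmin hW hle)⟩
  haveI := hVn
  have hVp : IsPGroup p V := hB.to_le hVB
  haveI : Nontrivial V := (Subgroup.nontrivial_iff_ne_bot V).mpr hVne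
  -- `V` is abelian and of exponent `p`
  let W₀ : Subgroup G := V ⊓ Subgroup.centralizer (V : Set G)
  have hW₀c : ∀ x ∈ W₀, ∀ y ∈ W₀, Commute x y := fun x hx y hy =>
    Subgroup.mem_centralizer_iff.mp hy.2 x hx.1
  let W : Subgroup G :=
    { carrier := {x | x ∈ W₀ ∧ x ^ p = 1}
      one_mem' := ⟨W₀.one_mem, one_pow p⟩
      mul_mem' := fun {x y} hx hy => ⟨W₀.mul_mem hx.1 hy.1, by
        rw [(hW₀c x hx.1 y hy.1).mul_pow, hx.2, hy.2, one_mul]⟩
      inv_mem' := fun {x} hx => ⟨W₀.inv_mem hx.1, by rw [inv_pow, hx.2, inv_one]⟩ }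
  have hWi : Inv' φ W := fun b x hx => ⟨(hVi.inf hVi.centralizer) b x hx.1,
    by rw [← map_pow, hx.2, map_one]⟩
  have hWn : W.Normal := ⟨fun x hx g => ⟨Subgroup.Normal.conj_mem inferInstance x hx.1 g,
    by rw [conj_pow, hx.2, mul_one, mul_inv_cancel]⟩⟩
  have hWne : W ≠ ⊥ := by
    haveI := hVp.center_nontrivial
    obtain ⟨m, hm, hm'⟩ := (hVp.to_subgroup (Subgroup.center V)).nontrivial_iff_card.mp inferInstance
    obtain ⟨x, hx⟩ := exists_prime_orderOf_dvd_card' p (G := Subgroup.center V)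
      (hm' ▸ dvd_pow_self p (by omega))
    intro h
    have hxW : ((x : V) : G) ∈ W := ⟨⟨(x : V).2, Subgroup.mem_centralizer_iff.mpr fun y hy =>
      congrArg Subtype.val (Subgroup.mem_center_iff.mp x.2 ⟨y, hy⟩)⟩, by
        have := pow_orderOf_eq_one x
        rw [hx] at this
        exact congrArg (fun z : Subgroup.center V => ((z : V) : G)) this⟩
    rw [h, Subgroup.mem_bot] at hxW
    rw [show x = 1 from Subtype.ext (Subtype.ext hxW), orderOf_one] at hx
    exact (Fact.out : p.Prime).ne_one hx.symm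
  have hWV : W = V := hmin W ⟨hWn, fun x hx => hVB hx.1.1, hWne, hWi⟩ fun x hx => hx.1.1
  refine ⟨V, hVn, hVB, hVne, ?_, hVi, fun U hU hUi hUV hUne => hmin U ⟨hU, hUV.trans hVB, hUne, hUi⟩ hUV⟩
  exact ⟨⟨⟨fun x y => Subtype.ext (hW₀c x (hWV.ge x.2).1 y (hWV.ge y.2).1)⟩⟩,
    fun x hx => (hWV.ge hx).2⟩

/-- a quadratic element centralises a minimal invariant elementary subgroup -/
theorem centralizes_of_minimal (hp5 : 5 ≤ p) {A : Type u} {G : Type v} [Group A] [Group G] [Finite A]
    [Finite G] (φ : A →* MulAut G) (hcop : (Nat.card A).Coprime (Nat.card G))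
    (hfix : ¬ Cfsg.Involves Y' (fixedPts φ)) (V : Subgroup G) [V.Normal] (hV : Cfsg.IsElementaryAbelian p V)
    (hVne : V ≠ ⊥) (hVi : Inv' φ V)
    (hmin : ∀ W : Subgroup G, W.Normal → Inv' φ W → W ≤ V → W ≠ ⊥ → W = V)
    {a : G} (hq : ⁅⁅V, Subgroup.zpowers a⁆, Subgroup.zpowers a⁆ = ⊥) :
    a ∈ Subgroup.centralizer (V : Set G) := by
  haveI := hV.1
  letI : CommGroup V := { mul_comm := fun a b => IsMulCommutative.is_comm.comm a b }
  haveI : Nontrivial V := (Subgroup.nontrivial_iff_ne_bot V).mpr hVne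
  let θ : A →* MulAut V := MonoidHom.mk'
    (fun b => MulEquiv.mk' ⟨fun x => ⟨φ b x, hVi b x x.2⟩, fun x => ⟨φ b⁻¹ x, hVi b⁻¹ x x.2⟩,
      fun x => Subtype.ext (by simp [map_inv]), fun x => Subtype.ext (by simp [map_inv])⟩
      fun x y => Subtype.ext (map_mul (φ b) (x : G) y))
    fun b c => MulEquiv.ext fun x => Subtype.ext (by
      show φ (b * c) x = φ b (φ c x)
      rw [map_mul, MulAut.mul_apply])
  have hθ : ∀ b (x : V), ((θ b x : V) : G) = φ b x := fun b x => rfl
  have htriv : MulAut.conjNormal (H := V) a = 1 := by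
    refine trivial_of_quadratic hp5 φ hcop hfix (V := V) (fun v => Subtype.ext (hV.2 _ v.2))
      MulAut.conjNormal θ ?_ ?_ ?_
    · intro b g
      rw [eq_mul_inv_iff_mul_eq]
      refine MulEquiv.ext fun x => Subtype.ext ?_
      rw [MulAut.mul_apply, MulAut.mul_apply, MulAut.conjNormal_apply, hθ, hθ, MulAut.conjNormal_apply,
        map_mul, map_mul, map_inv]
    · intro W hW hWθ
      rcases eq_or_ne W ⊥ with h | h
      · exact Or.inl h
      refine Or.inr ?_
      have hWm : W.map V.subtype = V := by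
        refine hmin _ ⟨?_⟩ ?_ (Subgroup.map_subtype_le W) fun e => h ?_
        · rintro _ ⟨w, hw, rfl⟩ g
          exact ⟨_, hW g w hw, MulAut.conjNormal_apply g w⟩
        · rintro b _ ⟨w, hw, rfl⟩
          exact ⟨_, hWθ b w hw, hθ b w⟩
        · rwa [Subgroup.map_eq_bot_iff_of_injective _ V.subtype_injective] at e
      apply Subgroup.map_injective V.subtype_injective
      rw [hWm, ← MonoidHom.range_eq_map, Subgroup.range_subtype]
    · intro v
      refine Subtype.ext ?_
      rw [MulAut.conjNormal_apply]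
      simp only [Subgroup.coe_mul, Subgroup.coe_inv, MulAut.conjNormal_apply]
      have h1 : ⁅(v : G), a⁆ ∈ ⁅V, Subgroup.zpowers a⁆ :=
        Subgroup.commutator_mem_commutator v.2 (Subgroup.mem_zpowers _)
      have h2 : ⁅⁅(v : G), a⁆, a⁆ = 1 := by
        have := Subgroup.commutator_mem_commutator h1 (Subgroup.mem_zpowers a)
        rwa [hq, Subgroup.mem_bot] at this
      have h4 := (show Commute ⁅(v : G), a⁆ a from commutatorElement_eq_one_iff_commute.mp h2).inv_left
      rw [commutatorElement_inv, commutatorElement_def] at h4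
      rw [← h4.eq, mul_inv_cancel_right]
  refine Subgroup.mem_centralizer_iff.mpr fun x hx => ?_
  have h := congrArg (fun σ : MulAut V => ((σ ⟨x, hx⟩ : V) : G)) htriv
  simp only [MulAut.conjNormal_apply, MulAut.one_apply] at h
  exact (mul_inv_eq_iff_eq_mul.mp h).symm

/-- **stability on invariant normal `p`-subgroups** -/
theorem stable_invariant (hp5 : 5 ≤ p) {A : Type u} [Group A] [Finite A] : ∀ (n : ℕ) (G : Type v)
    [Group G] [Finite G] (φ : A →* MulAut G), (Nat.card A).Coprime (Nat.card G) →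
    ¬ Cfsg.Involves Y' (fixedPts φ) →
    ∀ (B : Subgroup G) [B.Normal], Inv' φ B → IsPGroup p B → Nat.card B = n → Cfsg.IsPStableOn p B := by
  intro n
  induction n using Nat.strong_induction_on with
  | _ n ih =>
  intro G _ _ φ hcop hfix B _ hBi hB hn a hq
  by_cases hne : B = ⊥
  · have hC : Subgroup.centralizer (B : Set G) = ⊤ := by
      rw [hne]
      exact eq_top_iff.mpr fun x _ => Subgroup.mem_centralizer_iff.mpr fun y hy => by
        rw [Subgroup.mem_bot.mp hy, one_mul, mul_one]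
    have : (QuotientGroup.mk a : G ⧸ Subgroup.centralizer (B : Set G)) = 1 :=
      (QuotientGroup.eq_one_iff a).mpr (hC ▸ Subgroup.mem_top a)
    rw [this]
    exact one_mem _
  obtain ⟨V, hVn, hVB, hVne, hV, hVi, hmin⟩ := exists_minimal_elementary φ hB hne hBi
  haveI := hVn
  have haV : a ∈ Subgroup.centralizer (V : Set G) := by
    refine centralizes_of_minimal hp5 φ hcop hfix V hV hVne hVi hmin (le_bot_iff.mp (le_trans ?_ hq.le))
    exact Subgroup.commutator_mono (Subgroup.commutator_mono hVB le_rfl) le_rfl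
  set f := QuotientGroup.mk' V
  haveI hBn : (B.map f).Normal := Subgroup.Normal.map inferInstance f (QuotientGroup.mk'_surjective V)
  have hlt : Nat.card (B.map f) < n := by
    rw [← hn, ← Subgroup.relIndex_bot_left B, ← Subgroup.relIndex_mul_relIndex ⊥ V B bot_le hVB]
    have h1 : Nat.card (B.map f) = V.relIndex B := by
      rw [← Subgroup.relIndex_bot_left, ← Subgroup.map_bot f, Subgroup.relIndex_map_map,
        bot_sup_eq, QuotientGroup.ker_mk', sup_eq_left.mpr hVB]
    rw [h1, Subgroup.relIndex_bot_left]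
    exact lt_mul_of_one_lt_left (Nat.pos_of_ne_zero fun h => by
      rw [h1.symm] at h; exact (Nat.card_pos (α := B.map f)).ne' h)
      ((Subgroup.one_lt_card_iff_ne_bot V).mpr hVne)
  have hbar := ih _ hlt (G ⧸ V) (quotAction φ hVi) (coprime_quot hcop) (not_involves_quot φ hVi hcop hfix)
    (B.map f) (hBi.map_mk hVi) (hB.map f) rfl (f a) (by
      rw [← MonoidHom.map_zpowers, ← Subgroup.map_commutator, ← Subgroup.map_commutator, hq,
        Subgroup.map_bot])
  -- the core
  set C₁ := Subgroup.centralizer (V : Set G)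
  set C₂ := Subgroup.centralizer ((B.map f : Subgroup (G ⧸ V)) : Set (G ⧸ V))
  obtain ⟨k, hk⟩ := exists_core_power (p := p) C₂
  set D₂ := ((Cfsg.pCore p ((G ⧸ V) ⧸ C₂)).comap (QuotientGroup.mk' C₂)).comap f
  haveI : D₂.Normal := inferInstance
  have hcent : ∀ d ∈ C₁ ⊓ D₂, d ^ p ^ (k + 1) ∈ Subgroup.centralizer (B : Set G) := by
    intro d hd
    set e := d ^ p ^ k with he
    have heV : e ∈ C₁ := C₁.pow_mem hd.1 _
    have heB : f e ∈ C₂ := by
      rw [map_pow]
      exact hk (f d) hd.2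
    rw [pow_succ, pow_mul, ← he]
    refine Subgroup.mem_centralizer_iff.mpr fun x hx => ?_
    set v := x⁻¹ * (e * x * e⁻¹) with hv
    have hvV : v ∈ V := by
      rw [← QuotientGroup.eq_one_iff]
      have hc := Subgroup.mem_centralizer_iff.mp heB (f x) ⟨x, hx, rfl⟩
      show f v = 1
      rw [hv, map_mul, map_mul, map_mul, map_inv, map_inv, ← hc, mul_inv_cancel_right, inv_mul_cancel]
    have hev : e * v * e⁻¹ = v := by
      rw [← Subgroup.mem_centralizer_iff.mp heV v hvV, mul_inv_cancel_right]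
    have hpow : ∀ i : ℕ, e ^ i * x * (e ^ i)⁻¹ = x * v ^ i := by
      intro i
      induction i with
      | zero => simp
      | succ i ih =>
        calc e ^ (i + 1) * x * (e ^ (i + 1))⁻¹ = e * (e ^ i * x * (e ^ i)⁻¹) * e⁻¹ := by
              rw [pow_succ']; group
          _ = e * x * e⁻¹ * (e * v ^ i * e⁻¹) := by rw [ih]; group
          _ = x * v * v ^ i := by rw [← conj_pow, hev, hv, mul_inv_cancel_left]
          _ = x * v ^ (i + 1) := by rw [pow_succ', mul_assoc]
    have h1 := hpow p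
    rw [hV.2 v hvV, mul_one] at h1
    exact (mul_inv_eq_iff_eq_mul.mp h1).symm
  have hmap : IsPGroup p ((C₁ ⊓ D₂).map (QuotientGroup.mk' (Subgroup.centralizer (B : Set G)))) := by
    rintro ⟨_, d, hd, rfl⟩
    refine ⟨k + 1, Subtype.ext ?_⟩
    rw [SubgroupClass.coe_pow, OneMemClass.coe_one, ← map_pow]
    exact (QuotientGroup.eq_one_iff _).mpr (hcent d hd)
  have hn' : ((C₁ ⊓ D₂).map (QuotientGroup.mk' (Subgroup.centralizer (B : Set G)))).Normal :=
    Subgroup.Normal.map inferInstance _ (QuotientGroup.mk'_surjective _)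
  exact Cfsg.Lib.Components.le_pCore hmap ⟨a, ⟨haV, hbar⟩, rfl⟩

end Cfsg.Lib.CoprimeZJ
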