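import Cfsg.Agent.Coprime.Action

/-!
Glauberman's lemma: a coprime operator group fixes a point of every compatible transitive action.
-/

set_option linter.style.haveILetI false
set_option linter.unusedSectionVars false

namespace Cfsg.Lib.CoprimeZJ

open Subgroup
open Cfsg.Lib.Coprime (conjMap mem_conjMap card_sup_coprime exists_conj_eq_of_coprime)

variable {G : Type*} [Group G] [Finite G] {Ω : Type*}

/-- a coprime solvable operator group has a fixed point in a transitive set -/
theorem exists_fixedPoint (act : G → Ω → Ω) (h1 : ∀ x, act 1 x = x)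
    (hmul : ∀ g h x, act (g * h) x = act g (act h x)) {U Γ : Subgroup G}
    (hΓU : Γ ≤ normalizer (U : Set G)) (hcop : (Nat.card U).Coprime (Nat.card Γ))
    (hsol : Group.IsSolvable Γ) {S : Set Ω} (hS : S.Nonempty)
    (hUS : ∀ u ∈ U, ∀ x ∈ S, act u x ∈ S) (hΓS : ∀ g ∈ Γ, ∀ x ∈ S, act g x ∈ S)
    (htr : ∀ x ∈ S, ∀ y ∈ S, ∃ u ∈ U, act u x = y) :
    ∃ x ∈ S, ∀ g ∈ Γ, act g x = x := by
  obtain ⟨x, hx⟩ := hS
  set K := U ⊔ Γ with hK
  let T : Subgroup K :=
    { carrier := {k | act (k : G) x = x}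
      one_mem' := h1 x
      mul_mem' := fun {g h} hg hh => by
        show act ((g : G) * (h : G)) x = x
        rw [hmul, hh, hg]
      inv_mem' := fun {g} hg => by
        show act ((g : G)⁻¹) x = x
        conv_lhs => rw [← (hg : act (g : G) x = x)]
        rw [← hmul, inv_mul_cancel, h1] }
  set U' := U.subgroupOf K
  haveI : U'.Normal := normal_subgroupOf_sup_of_le_normalizer hΓU |> fun h => by
    rw [sup_comm] at h; exact h
  set f := (QuotientGroup.mk' U').comp T.subtype
  have hsurj : Function.Surjective f := by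
    intro q
    obtain ⟨k, rfl⟩ := QuotientGroup.mk'_surjective U' q
    have hUx : ∀ z ∈ K, act z x ∈ S := by
      intro z hz
      obtain ⟨u, hu, g, hg, rfl⟩ := Cfsg.Lib.Coprime.mem_sup_of_le_normalizer hΓU |>.mp hz
      rw [hmul]
      exact hUS u hu _ (hΓS g hg x hx)
    obtain ⟨u, hu, hux⟩ := htr _ (hUx k k.2) x hx
    refine ⟨⟨⟨u * k, mul_mem (mem_sup_left hu) k.2⟩, (hmul u k x).trans hux⟩, ?_⟩
    show QuotientGroup.mk' U' (⟨u, mem_sup_left hu⟩ * k) = _
    rw [map_mul]
    rw [show QuotientGroup.mk' U' (⟨u, mem_sup_left hu⟩ : K) = 1 from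
      (QuotientGroup.eq_one_iff _).mpr hu, one_mul]
  have hcK : Nat.card K = Nat.card U * Nat.card Γ := card_sup_coprime hΓU hcop
  have hidx : U'.index = Nat.card Γ := by
    have h := U'.card_mul_index
    rw [Nat.card_congr (subgroupOfEquivOfLe (le_sup_left : U ≤ K)).toEquiv, hcK] at h
    exact Nat.eq_of_mul_eq_mul_left Nat.card_pos h
  have hker : f.ker.index = Nat.card Γ := by
    rw [Subgroup.index_ker, MonoidHom.range_eq_top.mpr hsurj, Subgroup.card_top, ← hidx]
    rfl
  have hcardker : Nat.card f.ker ∣ Nat.card U := by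
    have hle : (f.ker.map T.subtype).map K.subtype ≤ U := by
      rintro _ ⟨_, ⟨t, ht, rfl⟩, rfl⟩
      exact (QuotientGroup.eq_one_iff (N := U') (T.subtype t)).mp ht
    rw [← Subgroup.card_map_of_injective T.subtype_injective,
      ← Subgroup.card_map_of_injective K.subtype_injective]
    exact Subgroup.card_dvd_of_le hle
  obtain ⟨H, hH⟩ := exists_right_complement'_of_coprime (N := f.ker)
    (hker.symm ▸ hcop.coprime_dvd_left hcardker)
  set H₀ := (H.map T.subtype).map K.subtype
  have hH₀ : Nat.card H₀ = Nat.card Γ := by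
    rw [Subgroup.card_map_of_injective K.subtype_injective,
      Subgroup.card_map_of_injective T.subtype_injective, ← hker, hH.symm.index_eq_card]
  obtain ⟨u, hu, he⟩ := exists_conj_eq_of_coprime hΓU hcop (Or.inr hsol)
    (show H₀ ≤ U ⊔ Γ from Subgroup.map_subtype_le _) hH₀
  refine ⟨act u⁻¹ x, hUS _ (inv_mem hu) x hx, fun g hg => ?_⟩
  have hmem : u * g * u⁻¹ ∈ H₀ := by
    rw [he, mem_conjMap]
    simpa [mul_assoc] using hg
  obtain ⟨_, ⟨t, -, rfl⟩, ht⟩ := hmem
  have hfix : act (u * g * u⁻¹) x = x := by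
    rw [← ht]; exact t.2
  conv_rhs => rw [← hfix]
  rw [← hmul, ← hmul]
  congr 1
  group

end Cfsg.Lib.CoprimeZJ
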