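import Cfsg.Agent.CoprimeZJ.Involutions
import Cfsg.Agent.CoprimeZJ.FixedPoint
import Cfsg.Agent.OddChar.PF.OddOrder

/-!
A coprime operator group fixes a pair of opposite minimal quadratic elements of a component.
-/

set_option linter.style.haveILetI false
set_option linter.unusedSectionVars false

namespace Cfsg.Lib.CoprimeZJ

open Cfsg Cfsg.Lib.QuadPair

variable {k : Type*} [Field k] {M : Type*} [AddCommGroup M] [Module k M]
  [Finite k] [FiniteDimensional k M]

local notation "End'" => (M →ₗ[k] M)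
local notation "GL'" => LinearMap.GeneralLinearGroup k M

/-- the setting: `Γ` acts coprimely on `G` -/
structure Setting (H G Γ : Subgroup (LinearMap.GeneralLinearGroup k M)) : Prop where
  gle : G ≤ H
  cle : Γ ≤ H
  norm : Γ ≤ Subgroup.normalizer (G : Set (LinearMap.GeneralLinearGroup k M))
  cop : (Nat.card G).Coprime (Nat.card Γ)
  semi : Semi H
  unip : ∀ (x : M →ₗ[k] M) (hx : x * x = 0), xu x hx ∈ H → xu x hx ∈ G

variable {H G Γ : Subgroup (LinearMap.GeneralLinearGroup k M)} {a c : M →ₗ[k] M}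

theorem Setting.root_le (S : Setting H G Γ) (ha : MinEl H a) : rootOf ha ≤ G := by
  intro g hg
  have hs := (mem_rootOf ha).mp hg
  have : g = xu _ hs.fam.sq := Units.ext (by rw [xu_val]; abel)
  rw [this]
  exact S.unip _ _ (hs.fam.xu_mem_one)

theorem Setting.roots_le (S : Setting H G Γ) {A : Subgroup GL'} (hA : A ∈ quadraticRootSubgroups H) : A ≤ G := by
  obtain ⟨a, ha, rfl⟩ := exists_root hA
  exact S.root_le ha

theorem Setting.partGroup_le (S : Setting H G Γ) (A : Subgroup GL') : partGroup H A ≤ G :=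
  iSup₂_le fun _ hB => S.roots_le hB.1

theorem part_conj {A B : Subgroup GL'} {g : GL'} (hg : g ∈ H) (hB : B ∈ part H A) :
    conjBy B g ∈ part H (conjBy A g) :=
  ⟨conj_mem_roots hB.1 hg, hB.2.lift (fun P => conjBy P g) fun _ _ h =>
    ⟨conj_mem_roots h.1 hg, conj_mem_roots h.2.1 hg, RootSub.conj_pair h.2.2 g⟩⟩

theorem part_stable {A C : Subgroup GL'} {g : GL'} (hA : A ∈ quadraticRootSubgroups H)
    (hg : g ∈ partGroup H A) (hC : C ∈ part H A) : conjBy C g ∈ part H A := by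
  let K : Subgroup GL' :=
    { carrier := {g | g ∈ H ∧ conjBy A g ∈ part H A}
      one_mem' := ⟨one_mem H, by rw [RootSub.conjBy_one]; exact self_mem_part hA⟩
      mul_mem' := fun {g h} hg hh => ⟨mul_mem hg.1 hh.1, by
        rw [← RootSub.conjBy_conjBy]
        have := part_conj hg.1 hh.2
        rwa [part_eq_of_mem hg.2] at this⟩
      inv_mem' := fun {g} hg => ⟨inv_mem hg.1, by
        have := part_conj (inv_mem hg.1) hg.2
        rw [RootSub.conjBy_conjBy, inv_mul_cancel, RootSub.conjBy_one] at this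
        exact ⟨conj_mem_roots hA (inv_mem hg.1), RootSub.freach_symm this.2⟩⟩ }
  have hle : partGroup H A ≤ K := iSup₂_le fun B hB x hx => by
    have hxH : x ∈ H := mem_le hB.1 hx
    refine ⟨hxH, ?_⟩
    have := part_conj hxH (⟨hA, RootSub.freach_symm hB.2⟩ : A ∈ part H B)
    rwa [RootSub.conjBy_self hx, part_eq_of_mem hB] at this
  obtain ⟨hgH, hgA⟩ := hle hg
  have := part_conj hgH hC
  rwa [part_eq_of_mem hgA] at this

/-- the stabiliser of a component -/
def partStab (S : Setting H G Γ) {A : Subgroup GL'} (hA : A ∈ quadraticRootSubgroups H) : Subgroup GL' where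
  carrier := {g | g ∈ Γ ∧ conjBy A g ∈ part H A}
  one_mem' := ⟨one_mem Γ, by rw [RootSub.conjBy_one]; exact self_mem_part hA⟩
  mul_mem' := fun {g h} hg hh => ⟨mul_mem hg.1 hh.1, by
    rw [← RootSub.conjBy_conjBy]
    have := part_conj (S.cle hg.1) hh.2
    rwa [part_eq_of_mem hg.2] at this⟩
  inv_mem' := fun {g} hg => ⟨inv_mem hg.1, by
    have := part_conj (inv_mem (S.cle hg.1)) hg.2
    rw [RootSub.conjBy_conjBy, inv_mul_cancel, RootSub.conjBy_one] at this
    exact ⟨conj_mem_roots hA (inv_mem (S.cle hg.1)), RootSub.freach_symm this.2⟩⟩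

theorem partStab_le (S : Setting H G Γ) {A : Subgroup GL'} (hA : A ∈ quadraticRootSubgroups H) :
    partStab S hA ≤ Γ := fun _ h => h.1

theorem Setting.odd_card (S : Setting H G Γ) (h2 : (2 : k) ≠ 0) (h3 : Nat.card k ≠ 3) (ha : MinEl H a) :
    Odd (Nat.card Γ) := by
  obtain ⟨c, hc, hI⟩ := exists_inv2 h2 h3 S.semi ha
  haveI : Finite M := Module.finite_of_finite k
  haveI : Finite End' := DFunLike.finite _
  have hw : weyl hI.aa hI.cc ∈ G := weyl_mem _ _ (S.unip _ _ ha.toFam.xu_mem_one) (S.unip _ _ hc.toFam.xu_mem_one)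
  set i : GL' := weyl hI.aa hI.cc * weyl hI.aa hI.cc
  have hv : (i : End') = 1 - (2 : k) • (a * c + c * a) := by rw [Units.val_mul]; exact hI.sq
  have hi1 : i ≠ 1 := fun e => by
    rw [e, Units.val_one, eq_comm, sub_eq_self] at hv
    have hP := (smul_eq_zero.mp hv).resolve_left h2
    exact ha.ne (by rw [← hI.proj_left.1, hP, zero_mul])
  have hi2 : i * i = 1 := Units.ext (by
    rw [Units.val_mul, hv, Units.val_one, sub_mul, one_mul, mul_sub, mul_one, smul_mul_assoc, mul_smul_comm,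
      hI.proj, two_smul, two_smul]
    abel)
  have h2G : 2 ∣ Nat.card G := by
    have h := Subgroup.orderOf_dvd_natCard G (mul_mem hw hw : i ∈ G)
    rwa [orderOf_eq_prime (by rw [pow_two]; exact hi2) hi1] at h
  rcases Nat.even_or_odd (Nat.card Γ) with he | ho
  · have h := Nat.dvd_gcd h2G he.two_dvd
    rw [S.cop] at h
    exact absurd h (by norm_num)
  · exact ho

/-- fixed opposite pair in the component of a given root -/
theorem exists_fixed_pair_in {p : ℕ} [Fact p.Prime] [CharP k p] (hp : p ≠ 2) (h2 : (2 : k) ≠ 0)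
    (h3 : Nat.card k ≠ 3) (S : Setting H G Γ) (ha₀ : MinEl H a) :
    ∃ (a' c : End') (ha : MinEl H a')
      (hc : MinEl H c), Inv2 a' c ∧ rootOf ha ∈ part H (rootOf ha₀) ∧ rootOf hc ∈ part H (rootOf ha₀) ∧
      ∀ g ∈ partStab S (rootOf_mem ha₀), cj g a' = a' ∧ cj g c = c := by
  haveI : Finite M := Module.finite_of_finite k
  haveI : Finite End' := DFunLike.finite _
  haveI : Finite GL' := Finite.of_injective (fun g : GL' => (g : End')) fun _ _ h => Units.ext h
  have hoddΓ := S.odd_card h2 h3 ha₀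
  set A₀ := rootOf ha₀
  have hA₀ : A₀ ∈ quadraticRootSubgroups H := rootOf_mem ha₀
  set Γ₀ := partStab S hA₀
  have hΓ₀ : Γ₀ ≤ Γ := partStab_le S hA₀
  have hodd : Odd (Nat.card Γ₀) := Odd.of_dvd_nat hoddΓ (Subgroup.card_dvd_of_le hΓ₀)
  have hsol : Group.IsSolvable Γ₀ := Cfsg.Agent.PF.isSolvable_of_odd _ hodd
  have hcop : ∀ U : Subgroup GL', U ≤ G → (Nat.card U).Coprime (Nat.card Γ₀) := fun U hU =>
    (S.cop.coprime_dvd_left (Subgroup.card_dvd_of_le hU)).coprime_dvd_right (Subgroup.card_dvd_of_le hΓ₀)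
  have hH : ∀ g ∈ Γ₀, g ∈ H := fun g hg => S.cle (hΓ₀ hg)
  -- a fixed member of the component
  have hmove : ∀ g ∈ Γ₀, ∀ B ∈ part H A₀, conjBy B g ∈ part H A₀ := fun g hg B hB => by
    have := part_conj (hH g hg) hB
    rwa [part_eq_of_mem hg.2] at this
  obtain ⟨A, hA, hAfix⟩ : ∃ A ∈ part H A₀, ∀ g ∈ Γ₀, conjBy A g = A := by
    refine exists_fixedPoint (fun g B => conjBy B g) (fun B => RootSub.conjBy_one)
      (fun g h B => (RootSub.conjBy_conjBy h g).symm) (U := partGroup H A₀) ?_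
      (hcop _ (S.partGroup_le A₀)) hsol ⟨A₀, self_mem_part hA₀⟩ (fun u hu B hB => part_stable hA₀ hu hB) hmove ?_
    · intro g hg
      refine RootSub.conjBy_eq_self_iff.mp (le_antisymm ?_ ?_)
      · rw [partGroup]
        simp only [conjBy, Subgroup.map_iSup]
        exact iSup₂_le fun B hB => le_iSup₂ (f := fun B _ => B) _ (hmove g hg B hB)
      · rw [partGroup]
        refine iSup₂_le fun B hB => ?_
        have h' := hmove g⁻¹ (inv_mem hg) B hB
        have e : conjBy (conjBy B g⁻¹) g = B := by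
          rw [RootSub.conjBy_conjBy, mul_inv_cancel, RootSub.conjBy_one]
        calc B = conjBy (conjBy B g⁻¹) g := e.symm
          _ ≤ conjBy (⨆ C ∈ part H A₀, C) g :=
            Subgroup.map_mono (le_iSup₂ (f := fun C _ => C) (conjBy B g⁻¹) h')
    · intro B hB C hC
      obtain ⟨x, hx, rfl⟩ := conj_in_part hA₀ hB
      obtain ⟨y, hy, rfl⟩ := conj_in_part hA₀ hC
      exact ⟨y * x⁻¹, mul_mem hy (inv_mem hx), by
        rw [RootSub.conjBy_conjBy, inv_mul_cancel_right]⟩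
  obtain ⟨a, ha, rfl⟩ := exists_root hA.1
  -- a fixed projection
  obtain ⟨c₀, hc₀, hI₀⟩ := exists_inv2 h2 h3 S.semi ha
  obtain ⟨P, ⟨c₁, hc₁, hI₁, hP₁⟩, hPfix⟩ :
      ∃ P ∈ {P : End' | ∃ c, MinEl H c ∧ Inv2 a c ∧ a * c + c * a = P}, ∀ g ∈ Γ₀, cj g P = P := by
    refine exists_fixedPoint cj cj_one cj_comp (U := flagGroup G a) ?_ (hcop _ (flagGroup_le G)) hsol
      ⟨_, c₀, hc₀, hI₀, rfl⟩ ?_ ?_ ?_
    · intro g hg
      refine Subgroup.mem_normalizer_iff.mpr fun x => ⟨fun hx => ?_, fun hx => ?_⟩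
      · exact flagGroup_conj ha (hH g hg) (hAfix g hg)
          ((Subgroup.mem_normalizer_iff.mp (S.norm (hΓ₀ hg)) x).mp (flagGroup_le G hx)) hx
      · have h := flagGroup_conj (n := g⁻¹) ha (inv_mem (hH g hg)) (hAfix g⁻¹ (inv_mem hg))
          ((Subgroup.mem_normalizer_iff.mp (S.norm (inv_mem (hΓ₀ hg))) _).mp (flagGroup_le G hx)) hx
        simpa [mul_assoc] using h
    · rintro u hu _ ⟨c, hc, hI, rfl⟩
      refine ⟨cj u c, hc.conj (S.gle (flagGroup_le G hu)), ?_, ?_⟩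
      · have := cj_inv2 hI u
        rwa [flag_fixes hu] at this
      · rw [cj_proj, flag_fixes hu]
    · rintro g hg _ ⟨c, hc, hI, rfl⟩
      obtain ⟨d, hd, hId, hP, -⟩ := exists_transport h2 h3 ha hc hI (hH g hg) (hAfix g hg)
      exact ⟨d, hd, hId, hP⟩
    · rintro _ ⟨c, hc, hI, rfl⟩ _ ⟨d, hd, hId, rfl⟩
      exact exists_flag_move hp h2 S.unip ha hd hc hId hI
  -- a fixed opposite root
  obtain ⟨B, ⟨c, hc, hI, hPc, rfl⟩, hBfix⟩ :
      ∃ B ∈ {B : Subgroup GL' | ∃ (c : End') (hc : MinEl H c), Inv2 a c ∧ a * c + c * a = P ∧ B = rootOf hc},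
        ∀ g ∈ Γ₀, conjBy B g = B := by
    refine exists_fixedPoint (fun g B => conjBy B g) (fun B => RootSub.conjBy_one)
      (fun g h B => (RootSub.conjBy_conjBy h g).symm) (U := rootOf ha) ?_ (hcop _ (S.root_le ha)) hsol
      ⟨_, c₁, hc₁, hI₁, hP₁, rfl⟩ ?_ ?_ ?_
    · exact fun g hg => RootSub.conjBy_eq_self_iff.mp (hAfix g hg)
    · rintro u hu _ ⟨c, hc, hI, hPc, rfl⟩
      have hs := (mem_rootOf ha).mp hu
      set z := (u : End') - 1
      have hu1 : (u : End') = 1 + z := by simp only [z]; abel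
      have hu2 : (↑u⁻¹ : End') = 1 - z := by
        rw [show (↑u⁻¹ : End') = ((↑u⁻¹ : End') - 1) + 1 by abel, inv_sub_one_of_sq hs.fam.sq, neg_add_eq_sub]
      have hza := hs.mul_eq_zero ha (Same.refl ha)
      have haz := (Same.refl ha).mul_eq_zero ha hs
      have hca : cj u a = a := by
        rw [cj, hu1, hu2, add_mul, one_mul, hza, add_zero, mul_sub, mul_one, haz, sub_zero]
      refine ⟨cj u c, hc.conj (mem_le (rootOf_mem ha) hu), ?_, ?_, root_conj hc (mem_le (rootOf_mem ha) hu)⟩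
      · have := cj_inv2 hI u
        rwa [hca] at this
      · have hPz := hI.proj_same hs.le_ker hs.range_le
        calc a * cj u c + cj u c * a = cj u (a * c + c * a) := by rw [cj_proj, hca]
          _ = (a * c + c * a) + z * (a * c + c * a) - ((a * c + c * a) * z + z * ((a * c + c * a) * z)) := by
              rw [cj, hu1, hu2]; noncomm_ring
          _ = P := by rw [hPz.1, hPz.2, hs.mul_eq_zero ha hs, add_zero, add_sub_cancel_right, hPc]
    · rintro g hg _ ⟨c, hc, hI, hPc, rfl⟩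
      obtain ⟨d, hd, hId, hP, hr⟩ := exists_transport h2 h3 ha hc hI (hH g hg) (hAfix g hg)
      exact ⟨d, hd, hId, by rw [hP, hPc, hPfix g hg], hr.symm⟩
    · rintro _ ⟨c, hc, hI, hPc, rfl⟩ _ ⟨d, hd, hId, hPd, rfl⟩
      have hX := same_shift h2 h3 ha hI hId (hPc.trans hPd.symm) hc hd
      have hmem := xu_mem_rootOf ha hX
      refine ⟨_, hmem, ?_⟩
      rw [root_conj hc (mem_le (rootOf_mem ha) hmem)]
      have e : cj (xu (shift a c d) hX.fam.sq) c = d := conj_shift hI hId (hPc.trans hPd.symm)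
      exact rootOf_congr _ _ (by rw [e]) (by rw [e])
  -- a fixed element
  let N : Subgroup GL' := G ⊓ Subgroup.normalizer (rootOf ha : Set GL') ⊓ Subgroup.normalizer (rootOf hc : Set GL')
  have hNfix : ∀ n ∈ N, n ∈ H ∧ conjBy (rootOf ha) n = rootOf ha ∧ conjBy (rootOf hc) n = rootOf hc :=
    fun n hn => ⟨S.gle hn.1.1, RootSub.conjBy_eq_self_iff.mpr hn.1.2, RootSub.conjBy_eq_self_iff.mpr hn.2⟩
  have hNΓ : ∀ g ∈ Γ₀, ∀ n ∈ N, g * n * g⁻¹ ∈ N := by
    intro g hg n hn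
    have h1 := RootSub.conjBy_eq_self_iff.mp (hAfix g hg)
    have h1' := RootSub.conjBy_eq_self_iff.mp (hBfix g hg)
    exact ⟨⟨(Subgroup.mem_normalizer_iff.mp (S.norm (hΓ₀ hg)) n).mp hn.1.1,
      Subgroup.mul_mem _ (Subgroup.mul_mem _ h1 hn.1.2) (Subgroup.inv_mem _ h1)⟩,
      Subgroup.mul_mem _ (Subgroup.mul_mem _ h1' hn.2) (Subgroup.inv_mem _ h1')⟩
  obtain ⟨hfin, hJ⟩ := rootSet_jdiv h2 h3 hI ha hc
  have hsame : ∀ g ∈ Γ₀, Same H a (cj g a) := fun g hg => same_cj_of_fixed ha (hH g hg) (hAfix g hg)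
  -- two of three members are conjugate
  have orbit : ∀ g ∈ Γ₀, ∃ n ∈ N, cj g a = cj n a := by
    let T : Subgroup GL' :=
      { carrier := {g | g ∈ Γ₀ ∧ ∃ n ∈ N, cj g a = cj n a}
        one_mem' := ⟨one_mem Γ₀, 1, one_mem N, rfl⟩
        mul_mem' := fun {g h} hg hh => by
          obtain ⟨hg', n, hn, e⟩ := hg
          obtain ⟨hh', m, hm, e'⟩ := hh
          refine ⟨mul_mem hg' hh', g * m * g⁻¹ * n, mul_mem (hNΓ g hg' m hm) hn, ?_⟩
          rw [cj_comp, cj_comp (g * m * g⁻¹) n, e', ← e, ← cj_comp, ← cj_comp]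
          congr 1
          group
        inv_mem' := fun {g} hg => by
          obtain ⟨hg', n, hn, e⟩ := hg
          refine ⟨inv_mem hg', g⁻¹ * n⁻¹ * g, ?_, ?_⟩
          · have := hNΓ g⁻¹ (inv_mem hg') n⁻¹ (inv_mem hn)
            rwa [inv_inv] at this
          · rw [cj_comp, e, ← cj_comp, inv_mul_cancel_right] }
    intro g hg
    have hg2 : g * g ∈ T → g ∈ T := by
      intro h
      obtain ⟨m, hm⟩ : Odd (orderOf g) := hodd.of_dvd_nat (Subgroup.orderOf_dvd_natCard Γ₀ hg)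
      have e : (g * g) ^ (m + 1) = g := by
        rw [← pow_two, ← pow_mul, show 2 * (m + 1) = orderOf g + 1 by omega, pow_add, pow_orderOf_eq_one, one_mul,
          pow_one]
      exact e ▸ T.pow_mem h _
    suffices hT : g ∈ T from hT.2
    let u : Fin 3 → End' := ![a, cj g a, cj (g * g) a]
    have hu : ∀ i, Same H a (u i) ∧ u i ≠ 0 := by
      intro i
      fin_cases i
      · exact ⟨Same.refl ha, ha.ne⟩
      · exact ⟨hsame g hg, (ha.conj (hH g hg)).ne⟩
      · exact ⟨hsame _ (mul_mem hg hg), (ha.conj (mul_mem (hH g hg) (hH g hg))).ne⟩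
    obtain ⟨i, j, hij, _, ⟨z, hz, rfl⟩, _, ⟨w, hw, rfl⟩, hz0, hw0, e⟩ :=
      hJ.three (x := fun i => corner a c (u i)) (fun i => ⟨u i, (hu i).1, rfl⟩) fun i h => (hu i).2
        (corner_inj hI (mul_sandwich hI ha (hu i).1) (by rw [zero_mul, zero_mul]) (hu i).1.range_le
          (by simp) (by rw [h, corner_zero]))
    obtain ⟨n, hnG, hna, hnc, hn⟩ := exists_torus h2 h3 hI ha hc S.gle S.unip hz
      (fun h => hz0 (by rw [h, corner_zero]))
    obtain ⟨m, hmG, hma, hmc, hm⟩ := exists_torus h2 h3 hI ha hc S.gle S.unip hw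
      (fun h => hw0 (by rw [h, corner_zero]))
    have hnN : n ∈ N := ⟨⟨hnG, RootSub.conjBy_eq_self_iff.mp hna⟩, RootSub.conjBy_eq_self_iff.mp hnc⟩
    have hmN : m ∈ N := ⟨⟨hmG, RootSub.conjBy_eq_self_iff.mp hma⟩, RootSub.conjBy_eq_self_iff.mp hmc⟩
    have hrz : ∀ v : End', LinearMap.range (z * c * v) ≤ LinearMap.range a := by
      rintro v _ ⟨x, rfl⟩; exact hz.range_le ⟨_, rfl⟩
    have hrw : ∀ v : End', LinearMap.range (w * c * v) ≤ LinearMap.range a := by
      rintro v _ ⟨x, rfl⟩; exact hw.range_le ⟨_, rfl⟩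
    have h' : cj n (u i) = cj m (u j) := by
      rw [cj, cj, hn _ (hu i).1, hm _ (hu j).1]
      refine corner_inj hI (z := z * c * u i * c * z) (w := w * c * u j * c * w) ?_ ?_ ?_ ?_ ?_
      · rw [mul_assoc _ c a, mul_assoc _ z, ← mul_assoc z c a, mul_sandwich hI ha hz]
      · rw [mul_assoc _ c a, mul_assoc _ w, ← mul_assoc w c a, mul_sandwich hI ha hw]
      · rintro _ ⟨v, rfl⟩; exact hrz _ ⟨_, rfl⟩
      · rintro _ ⟨v, rfl⟩; exact hrw _ ⟨_, rfl⟩
      · rw [corner_mul hI (hrz _) hz.range_le, corner_mul hI hz.range_le (hu i).1.range_le,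
          corner_mul hI (hrw _) hw.range_le, corner_mul hI hw.range_le (hu j).1.range_le]
        exact e
    have rel : ∃ n ∈ N, u j = cj n (u i) := ⟨m⁻¹ * n, mul_mem (inv_mem hmN) hnN, by
      rw [cj_comp, h', ← cj_comp, inv_mul_cancel, cj_one]⟩
    have rel' : ∃ n ∈ N, u i = cj n (u j) := ⟨n⁻¹ * m, mul_mem (inv_mem hnN) hmN, by
      rw [cj_comp, ← h', ← cj_comp, inv_mul_cancel, cj_one]⟩
    have c12 : (∃ n ∈ N, cj (g * g) a = cj n (cj g a)) → g ∈ T := by
      rintro ⟨n, hn, e⟩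
      refine ⟨hg, g⁻¹ * n * g, ?_, ?_⟩
      · have := hNΓ g⁻¹ (inv_mem hg) n hn
        rwa [inv_inv] at this
      · rw [mul_assoc, cj_comp, cj_comp, ← e, ← cj_comp, inv_mul_cancel_left]
    fin_cases i <;> fin_cases j
    · exact absurd rfl hij
    · exact ⟨hg, rel⟩
    · exact hg2 ⟨mul_mem hg hg, rel⟩
    · exact ⟨hg, rel'⟩
    · exact absurd rfl hij
    · exact c12 rel
    · exact hg2 ⟨mul_mem hg hg, rel'⟩
    · exact c12 rel'
    · exact absurd rfl hij
  obtain ⟨a₁, ⟨n, hn, rfl⟩, ha₁⟩ : ∃ x ∈ (fun n => cj n a) '' (N : Set GL'), ∀ g ∈ Γ₀, cj g x = x := by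
    refine exists_fixedPoint cj cj_one cj_comp (U := N) ?_ (hcop N (inf_le_left.trans inf_le_left)) hsol
      ⟨_, 1, one_mem N, rfl⟩ ?_ ?_ ?_
    · intro g hg
      refine Subgroup.mem_normalizer_iff.mpr fun x => ⟨fun hx => hNΓ g hg x hx, fun hx => ?_⟩
      have h := hNΓ g⁻¹ (inv_mem hg) _ hx
      simpa [mul_assoc] using h
    · rintro u hu _ ⟨n, hn, rfl⟩
      exact ⟨u * n, mul_mem hu hn, cj_comp u n a⟩
    · rintro g hg _ ⟨n, hn, rfl⟩
      obtain ⟨m, hm, e⟩ := orbit g hg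
      refine ⟨g * n * g⁻¹ * m, mul_mem (hNΓ g hg n hn) hm, ?_⟩
      show cj (g * n * g⁻¹ * m) a = cj g (cj n a)
      rw [cj_comp, ← e, ← cj_comp, ← cj_comp]
      congr 1
      group
    · rintro _ ⟨n, hn, rfl⟩ _ ⟨m, hm, rfl⟩
      exact ⟨m * n⁻¹, mul_mem hm (inv_mem hn), by rw [← cj_comp, inv_mul_cancel_right]⟩
  obtain ⟨hnH, hna, hnc⟩ := hNfix n hn
  have ma : MinEl H (cj n a) := ha.conj hnH
  have mc : MinEl H (cj n c) := hc.conj hnH
  have hra : rootOf ma = rootOf ha := (root_conj ha hnH).symm.trans hna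
  have hrc : rootOf mc = rootOf hc := (root_conj hc hnH).symm.trans hnc
  have hI' := cj_inv2 hI n
  refine ⟨cj n a, cj n c, ma, mc, hI', hra ▸ hA, ?_, fun g hg => ⟨ha₁ g hg, ?_⟩⟩
  · exact part_pair_mem (hra ▸ hA) (rootOf_mem mc) (rank_one_pair h2 h3 ma mc (not_nilp hI' ma.ne))
  · have hIg : Inv2 (cj n a) (cj g (cj n c)) := by
      have h := cj_inv2 hI' g
      rwa [ha₁ g hg] at h
    have mg : MinEl H (cj g (cj n c)) := mc.conj (hH g hg)
    have hs : Same H (cj n c) (cj g (cj n c)) :=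
      same_cj_of_fixed mc (hH g hg) (by rw [hrc]; exact hBfix g hg)
    obtain ⟨-, hk, hr⟩ := hs.data mg.ne
    refine (opp_unique hI' hIg (proj_eq hI' hIg rfl rfl hk hr).symm ?_).symm
    exact hs.mul_eq_zero mc (Same.refl mc)

/-- **fixed opposite pair** -/
theorem exists_fixed_pair {p : ℕ} [Fact p.Prime] [CharP k p] (hp : p ≠ 2) (h2 : (2 : k) ≠ 0)
    (h3 : Nat.card k ≠ 3) (S : Setting H G Γ) (ha₀ : MinEl H a) :
    ∃ (A₀ : Subgroup GL') (hA₀ : A₀ ∈ quadraticRootSubgroups H) (a c : End') (ha : MinEl H a)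
      (hc : MinEl H c), Inv2 a c ∧ rootOf ha ∈ part H A₀ ∧ rootOf hc ∈ part H A₀ ∧
      ∀ g ∈ partStab S hA₀, cj g a = a ∧ cj g c = c :=
  ⟨rootOf ha₀, rootOf_mem ha₀, exists_fixed_pair_in hp h2 h3 S ha₀⟩

end Cfsg.Lib.CoprimeZJ
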