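import Cfsg.Agent.CoprimeZJ.Transitive
import Cfsg.Agent.RootSub.QuadPair.Classes

/-!
Conjugation of root data and transitivity on the involutions of the opposites.
-/

set_option linter.style.haveILetI false
set_option linter.unusedSectionVars false

namespace Cfsg.Lib.CoprimeZJ

open Cfsg Cfsg.Lib.QuadPair

variable {k : Type*} [Field k] {M : Type*} [AddCommGroup M] [Module k M]

local notation "End'" => (M →ₗ[k] M)
local notation "GL'" => LinearMap.GeneralLinearGroup k M

variable {H : Subgroup (LinearMap.GeneralLinearGroup k M)} {a c c₁ c₂ x y z : M →ₗ[k] M}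

/-- conjugation of an endomorphism by a unit -/
def cj (g : LinearMap.GeneralLinearGroup k M) (x : M →ₗ[k] M) : M →ₗ[k] M :=
  (g : M →ₗ[k] M) * x * (↑g⁻¹ : M →ₗ[k] M)

theorem cj_one (x : End') : cj 1 x = x := by simp [cj]

theorem cj_comp (g h : GL') (x : End') : cj (g * h) x = cj g (cj h x) := by
  simp only [cj, _root_.mul_inv_rev, Units.val_mul, mul_assoc]

theorem cj_mul (g : GL') (x y : End') : cj g (x * y) = cj g x * cj g y := by
  simp only [cj, mul_assoc]
  rw [← mul_assoc (↑g⁻¹ : End') (g : End'), Units.inv_mul, one_mul]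

theorem cj_add (g : GL') (x y : End') : cj g (x + y) = cj g x + cj g y := by
  simp only [cj, mul_add, add_mul]

theorem cj_sub (g : GL') (x y : End') : cj g (x - y) = cj g x - cj g y := by
  simp only [cj, mul_sub, sub_mul]

theorem cj_smul (g : GL') (r : k) (x : End') : cj g (r • x) = r • cj g x := by
  simp only [cj, mul_smul_comm, smul_mul_assoc]

theorem cj_zero (g : GL') : cj g 0 = 0 := by simp [cj]

theorem cj_inv2 (hI : Inv2 a c) (g : GL') : Inv2 (cj g a) (cj g c) :=
  ⟨by rw [← cj_mul, hI.aa, cj_zero], by rw [← cj_mul, hI.cc, cj_zero],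
    by rw [← cj_mul, ← cj_mul, hI.aca], by rw [← cj_mul, ← cj_mul, hI.cac]⟩

theorem cj_proj (g : GL') : cj g (a * c + c * a) = cj g a * cj g c + cj g c * cj g a := by
  rw [cj_add, cj_mul, cj_mul]

variable [Finite k] [FiniteDimensional k M]

theorem root_conj (ha : MinEl H a) {g : GL'} (hg : g ∈ H) :
    conjBy (rootOf ha) g = rootOf (a := cj g a) (ha.conj hg) := rootOf_conj ha hg

theorem rootOf_eq_iff (ha : MinEl H a) (hc : MinEl H c) : rootOf ha = rootOf hc ↔ Same H a c := by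
  constructor
  · intro e
    have h := xu_mem_rootOf hc (Same.refl hc)
    rw [← e, mem_rootOf, xu_sub_one] at h
    exact h
  · intro h
    obtain ⟨-, hk, hr⟩ := h.data hc.ne
    exact rootOf_congr _ _ hk.symm hr.symm

theorem same_cj_of_fixed (ha : MinEl H a) {g : GL'} (hg : g ∈ H) (he : conjBy (rootOf ha) g = rootOf ha) :
    Same H a (cj g a) :=
  (rootOf_eq_iff ha _).mp ((root_conj ha hg).symm.trans he).symm

/-- a fixed root carries opposite data to opposite data with the same projection -/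
theorem exists_transport (h2 : (2 : k) ≠ 0) (h3 : Nat.card k ≠ 3) (ha : MinEl H a) (hc : MinEl H c)
    (hI : Inv2 a c) {g : GL'} (hg : g ∈ H) (he : conjBy (rootOf ha) g = rootOf ha) :
    ∃ (d : End') (hd : MinEl H d), Inv2 a d ∧ a * d + d * a = cj g (a * c + c * a) ∧
      rootOf hd = conjBy (rootOf hc) g := by
  have hs := same_cj_of_fixed ha hg he
  have mg : MinEl H (cj g a) := ha.conj hg
  obtain ⟨-, hk, hr⟩ := hs.data mg.ne
  obtain ⟨d, hd, hd0, hId, hP⟩ := exists_opposite h2 h3 (cj_inv2 hI g) mg (hc.conj hg)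
    ((Same.refl ha).trans hk.symm hr.symm) ha.ne
  refine ⟨d, (hd.data hd0).1, hId, hP.trans (cj_proj g).symm, ?_⟩
  rw [root_conj hc hg]
  exact rootOf_congr _ _ (hd.data hd0).2.1 (hd.data hd0).2.2

/-- the conditions of the unipotent radical of the flag of `a` -/
structure Flag (a d : M →ₗ[k] M) : Prop where
  right : d * a = 0
  left : a * d = 0
  mid : ∀ v, a v = 0 → d v ∈ LinearMap.range a

theorem Flag.mul_range (h : Flag a x) {v : M} (hv : v ∈ LinearMap.range a) : x v = 0 := by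
  obtain ⟨w, rfl⟩ := hv
  exact congrArg (fun f : End' => f w) h.right

theorem Flag.zero : Flag a (0 : End') :=
  ⟨zero_mul a, mul_zero a, fun v _ => by rw [LinearMap.zero_apply]; exact zero_mem _⟩

/-- the unipotent radical of the flag of `a` inside `G` -/
def flagGroup (G : Subgroup (LinearMap.GeneralLinearGroup k M)) (a : M →ₗ[k] M) :
    Subgroup (LinearMap.GeneralLinearGroup k M) where
  carrier := {g | g ∈ G ∧ Flag a ((g : End') - 1)}
  one_mem' := ⟨one_mem G, by rw [Units.val_one, sub_self]; exact Flag.zero⟩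
  mul_mem' := fun {g h} hg hh => by
    refine ⟨mul_mem hg.1 hh.1, ?_⟩
    obtain ⟨dg, hdg⟩ : ∃ d, d = (g : End') - 1 := ⟨_, rfl⟩
    obtain ⟨dh, hdh⟩ : ∃ d, d = (h : End') - 1 := ⟨_, rfl⟩
    have e : (↑(g * h) : End') - 1 = dg * dh + (dg + dh) := by
      rw [hdg, hdh, Units.val_mul]; noncomm_ring
    have h1 : Flag a dg := hdg ▸ hg.2
    have h2 : Flag a dh := hdh ▸ hh.2
    rw [e]
    refine ⟨?_, ?_, fun v hv => ?_⟩
    · rw [add_mul, add_mul, mul_assoc, h2.right, h1.right, mul_zero, add_zero, add_zero]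
    · rw [mul_add, mul_add, ← mul_assoc, h1.left, h2.left, zero_mul, add_zero, add_zero]
    · rw [LinearMap.add_apply, LinearMap.add_apply, Module.End.mul_apply, h1.mul_range (h2.mid v hv), zero_add]
      exact add_mem (h1.mid v hv) (h2.mid v hv)
  inv_mem' := fun {g} hg => by
    refine ⟨inv_mem hg.1, ?_⟩
    obtain ⟨d, hd⟩ : ∃ d, d = (g : End') - 1 := ⟨_, rfl⟩
    have h1 : Flag a d := hd ▸ hg.2
    have e : (↑g⁻¹ : End') - 1 = -((↑g⁻¹ : End') * d) := by
      rw [hd, mul_sub, Units.inv_mul, mul_one]; abel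
    have e' : (↑g⁻¹ : End') - 1 = -(d * (↑g⁻¹ : End')) := by
      rw [hd, sub_mul, Units.mul_inv, one_mul]; abel
    refine ⟨?_, ?_, fun v hv => ?_⟩
    · rw [e, neg_mul, mul_assoc, h1.right, mul_zero, neg_zero]
    · rw [e', mul_neg, ← mul_assoc, h1.left, zero_mul, neg_zero]
    · rw [e']
      refine neg_mem (h1.mid _ ?_)
      have : a * (↑g⁻¹ : End') = a := by
        have h' : a * ((↑g⁻¹ : End') - 1) = 0 := by rw [e', mul_neg, ← mul_assoc, h1.left, zero_mul, neg_zero]
        rwa [mul_sub, mul_one, sub_eq_zero] at h'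
      exact (congrArg (fun f : End' => f v) this).trans hv

theorem flagGroup_le (G : Subgroup GL') : flagGroup G a ≤ G := fun _ h => h.1

theorem flag_fixes {g : GL'} {G : Subgroup GL'} (hg : g ∈ flagGroup G a) : cj g a = a := by
  have e1 : (g : End') * a = a := by
    have := hg.2.right
    rwa [sub_mul, one_mul, sub_eq_zero] at this
  have e2 : a * (↑g⁻¹ : End') = a := by
    have := (inv_mem hg).2.left
    rwa [mul_sub, mul_one, sub_eq_zero] at this
  rw [cj, e1, e2]

/-- the flag group is invariant under the normaliser of the root -/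
theorem flagGroup_conj {G : Subgroup GL'} (ha : MinEl H a) {n g : GL'} (hn : n ∈ H)
    (he : conjBy (rootOf ha) n = rootOf ha) (hnG : n * g * n⁻¹ ∈ G) (hg : g ∈ flagGroup G a) :
    n * g * n⁻¹ ∈ flagGroup G a := by
  refine ⟨hnG, ?_⟩
  have hs := same_cj_of_fixed ha hn he
  obtain ⟨-, hk, hr⟩ := hs.data (ha.conj hn).ne
  set d := (g : End') - 1
  have e : (↑(n * g * n⁻¹) : End') - 1 = cj n d := by
    rw [cj, mul_sub, sub_mul, mul_one, Units.mul_inv, Units.val_mul, Units.val_mul]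
  rw [e]
  have hf : Flag (cj n a) (cj n d) := by
    refine ⟨by rw [← cj_mul, hg.2.right, cj_zero], by rw [← cj_mul, hg.2.left, cj_zero], fun v hv => ?_⟩
    have hv' : a ((↑n⁻¹ : End') v) = 0 := by
      have := congrArg (fun w => (↑n⁻¹ : End') w) hv
      simp only [cj, Module.End.mul_apply, map_zero] at this
      rwa [← Module.End.mul_apply, Units.inv_mul, Module.End.one_apply] at this
    obtain ⟨w, hw⟩ := hg.2.mid _ hv'
    refine ⟨(n : End') w, ?_⟩
    simp only [cj, Module.End.mul_apply]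
    rw [← Module.End.mul_apply (↑n⁻¹ : End') (n : End'), Units.inv_mul, Module.End.one_apply, hw]
  refine ⟨mul_eq_zero_of_range (hr.symm.le.trans (range_le_of_mul_eq_zero hf.right)),
    mul_eq_zero_of_range ((range_le_of_mul_eq_zero hf.left).trans hk.le), fun v hv => ?_⟩
  have : v ∈ LinearMap.ker (cj n a) := hk ▸ hv
  exact hr ▸ hf.mid v this

variable {p : ℕ} [Fact p.Prime] [CharP k p]

theorem flag_pow (hp : p ≠ 2) (ha : a ≠ 0) {g : GL'} {G : Subgroup GL'} (hg : g ∈ flagGroup G a) :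
    g ^ p = 1 := by
  haveI : Nontrivial (End') := ⟨⟨a, 0, ha⟩⟩
  haveI : CharP (End') p := charP_of_injective_algebraMap (algebraMap k End').injective p
  obtain ⟨d, hd⟩ : ∃ d, d = (g : End') - 1 := ⟨_, rfl⟩
  have h : Flag a d := hd ▸ hg.2
  have h3 : d ^ 3 = 0 := by
    refine LinearMap.ext fun v => ?_
    rw [pow_succ, pow_two, Module.End.mul_apply, Module.End.mul_apply, LinearMap.zero_apply]
    refine h.mul_range (h.mid _ ?_)
    exact congrArg (fun f : End' => f v) h.left
  refine Units.ext ?_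
  rw [Units.val_pow_eq_pow_val, show (g : End') = 1 + d by rw [hd]; abel,
    add_pow_char_of_commute _ (Commute.one_left d), one_pow, pow_eq_zero_of_le ?_ h3, add_zero, Units.val_one]
  have := (Fact.out : p.Prime).two_le
  omega

/-- the flag group is transitive on the projections of the opposites -/
theorem exists_flag_move (hp : p ≠ 2) (h2 : (2 : k) ≠ 0) {G : Subgroup GL'}
    (hG : ∀ (x : End') (hx : x * x = 0), xu x hx ∈ H → xu x hx ∈ G)
    (ha : MinEl H a) (m₁ : MinEl H c₁) (m₂ : MinEl H c₂) (h₁ : Inv2 a c₁) (h₂ : Inv2 a c₂) :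
    ∃ u ∈ flagGroup G a, cj u (a * c₂ + c₂ * a) = a * c₁ + c₁ * a := by
  have hodd : Odd p := (Fact.out : p.Prime).odd_of_ne_two hp
  have inv_facts : ∀ {c : End'}, MinEl H c → (hI : Inv2 a c) →
      weyl hI.aa hI.cc * weyl hI.aa hI.cc ∈ G ∧
      ((weyl hI.aa hI.cc * weyl hI.aa hI.cc : GL') : End') = 1 - (2 : k) • (a * c + c * a) ∧
      (weyl hI.aa hI.cc * weyl hI.aa hI.cc) * (weyl hI.aa hI.cc * weyl hI.aa hI.cc) = 1 := by
    intro c hc hI
    have hw : weyl hI.aa hI.cc ∈ G := weyl_mem _ _ (hG _ _ ha.toFam.xu_mem_one) (hG _ _ hc.toFam.xu_mem_one)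
    have hv : ((weyl hI.aa hI.cc * weyl hI.aa hI.cc : GL') : End') = 1 - (2 : k) • (a * c + c * a) := by
      rw [Units.val_mul]; exact hI.sq
    refine ⟨mul_mem hw hw, hv, Units.ext ?_⟩
    rw [Units.val_mul, hv, Units.val_one, sub_mul, one_mul, mul_sub, mul_one, smul_mul_assoc, mul_smul_comm,
      hI.proj, two_smul, two_smul]
    abel
  obtain ⟨g₁, e₁, s₁⟩ := inv_facts m₁ h₁
  obtain ⟨g₂, e₂, s₂⟩ := inv_facts m₂ h₂
  generalize weyl h₁.aa h₁.cc * weyl h₁.aa h₁.cc = i₁ at g₁ e₁ s₁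
  generalize weyl h₂.aa h₂.cc * weyl h₂.aa h₂.cc = i₂ at g₂ e₂ s₂
  have facts : ∀ {c : End'} {i : GL'}, Inv2 a c → (i : End') = 1 - (2 : k) • (a * c + c * a) →
      (i : End') * a = -a ∧ a * (i : End') = -a ∧ ∀ v, a v = 0 → (i : End') v - v ∈ LinearMap.range a := by
    intro c i hI e
    refine ⟨?_, ?_, fun v hv => ?_⟩
    · rw [e, sub_mul, one_mul, smul_mul_assoc, hI.proj_left.1, two_smul]; abel
    · rw [e, mul_sub, mul_one, mul_smul_comm, hI.proj_left.2, two_smul]; abel
    · rw [e, LinearMap.sub_apply, Module.End.one_apply, LinearMap.smul_apply, LinearMap.add_apply,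
        Module.End.mul_apply, Module.End.mul_apply, hv, map_zero, add_zero, sub_sub_cancel_left]
      exact neg_mem (Submodule.smul_mem _ _ ⟨c v, rfl⟩)
  obtain ⟨a1, b1, r1⟩ := facts h₁ e₁
  obtain ⟨a2, b2, r2⟩ := facts h₂ e₂
  set t := i₁ * i₂ with ht
  have htU : t ∈ flagGroup G a := by
    refine ⟨mul_mem g₁ g₂, ?_, ?_, fun v hv => ?_⟩
    · rw [sub_mul, one_mul, ht, Units.val_mul, mul_assoc, a2, mul_neg, a1, neg_neg, sub_self]
    · rw [mul_sub, mul_one, ht, Units.val_mul, ← mul_assoc, b1, neg_mul, b2, neg_neg, sub_self]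
    · rw [LinearMap.sub_apply, Module.End.one_apply, ht, Units.val_mul, Module.End.mul_apply]
      obtain ⟨w, hw⟩ := r2 v hv
      have h : (i₁ : End') ((i₂ : End') v) - v = ((i₁ : End') v - v) + (i₁ : End') ((i₂ : End') v - v) := by
        rw [map_sub]; abel
      rw [h, ← hw, ← Module.End.mul_apply, a1, LinearMap.neg_apply]
      exact add_mem (r1 v hv) (neg_mem ⟨w, rfl⟩)
  obtain ⟨m, hm⟩ : Odd (orderOf t) := hodd.of_dvd_nat (orderOf_dvd_of_pow_eq_one (flag_pow hp ha.ne htU))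
  set u := t ^ (m + 1)
  refine ⟨u, pow_mem htU _, ?_⟩
  have hs : i₂ * t * i₂⁻¹ = t⁻¹ := by
    rw [ht, _root_.mul_inv_rev, inv_eq_of_mul_eq_one_right s₁, inv_eq_of_mul_eq_one_right s₂]
    rw [mul_assoc i₂ (i₁ * i₂) i₂, mul_assoc i₁ i₂ i₂, s₂, mul_one]
  have hu : u * i₂ * u⁻¹ = i₁ := by
    have h1 : i₂ * u * i₂⁻¹ = u⁻¹ := by rw [← conj_pow, hs, inv_pow]
    have h2' : u * u = t := by
      rw [← pow_add, show m + 1 + (m + 1) = orderOf t + 1 by omega, pow_add, pow_orderOf_eq_one, one_mul, pow_one]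
    calc u * i₂ * u⁻¹ = u * i₂ * (i₂ * u * i₂⁻¹) := by rw [h1]
      _ = u * (i₂ * i₂) * u * i₂⁻¹ := by simp only [mul_assoc]
      _ = i₁ * i₂ * i₂⁻¹ := by rw [s₂, mul_one, h2', ht]
      _ = i₁ := mul_inv_cancel_right _ _
  have h4 := congrArg (Units.val) hu
  rw [Units.val_mul, Units.val_mul, e₂, e₁] at h4
  have h5 : cj u (1 - (2 : k) • (a * c₂ + c₂ * a)) = 1 - (2 : k) • (a * c₁ + c₁ * a) := h4
  rw [cj_sub, cj_smul, show cj u (1 : End') = 1 by rw [cj, mul_one, Units.mul_inv], sub_right_inj] at h5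
  exact smul_right_injective _ h2 h5

end Cfsg.Lib.CoprimeZJ
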