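import Mathlib

/-!
Finite Jordan division sets inside a ring: at most two orbits of `f ↦ z f z`.
-/

set_option linter.unusedSectionVars false

namespace Cfsg.Lib.CoprimeZJ

variable {R : Type*} [Ring R] [Finite R]

/-- an additive set containing `1` whose non-zero members have inverses in it -/
structure JDiv (F : Set R) : Prop where
  one : (1 : R) ∈ F
  add : ∀ x ∈ F, ∀ y ∈ F, x + y ∈ F
  neg : ∀ x ∈ F, -x ∈ F
  inv : ∀ x ∈ F, x ≠ 0 → ∃ y ∈ F, x * y = 1 ∧ y * x = 1
  nontriv : (1 : R) ≠ 0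
  two : ∀ x : R, x + x = 0 → x = 0

variable {F : Set R}

theorem JDiv.zero (h : JDiv F) : (0 : R) ∈ F := by
  have := h.add _ h.one _ (h.neg _ h.one)
  rwa [add_neg_cancel] at this

theorem JDiv.sub (h : JDiv F) {x y : R} (hx : x ∈ F) (hy : y ∈ F) : x - y ∈ F :=
  sub_eq_add_neg x y ▸ h.add x hx _ (h.neg y hy)

theorem JDiv.cancel_left (h : JDiv F) {x y z : R} (hx : x ∈ F) (hx0 : x ≠ 0) (e : x * y = x * z) :
    y = z := by
  obtain ⟨x', -, -, h2⟩ := h.inv x hx hx0
  rw [← one_mul y, ← h2, mul_assoc, e, ← mul_assoc, h2, one_mul]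

theorem JDiv.cancel_right (h : JDiv F) {x y z : R} (hx : x ∈ F) (hx0 : x ≠ 0) (e : y * x = z * x) :
    y = z := by
  obtain ⟨x', -, h1, -⟩ := h.inv x hx hx0
  rw [← mul_one y, ← h1, ← mul_assoc, e, mul_assoc, h1, mul_one]

/-- Hua: closed under `x y x` -/
theorem JDiv.hua (h : JDiv F) {x y : R} (hx : x ∈ F) (hy : y ∈ F) : x * y * x ∈ F := by
  rcases eq_or_ne x 0 with rfl | hx0
  · simpa using h.zero
  rcases eq_or_ne y 0 with rfl | hy0
  · simpa using h.zero
  obtain ⟨x', hx', hxx', hx'x⟩ := h.inv x hx hx0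
  obtain ⟨y', hy', hyy', hy'y⟩ := h.inv y hy hy0
  have hd : y' - x ∈ F := h.sub hy' hx
  rcases eq_or_ne (y' - x) 0 with hd0 | hd0
  · rw [sub_eq_zero] at hd0
    rw [← hd0, hy'y, one_mul]
    exact hy'
  obtain ⟨z', hz', hdz, hzd⟩ := h.inv _ hd hd0
  have hs : (x' + z') * (x - x * y * x) = 1 := by
    have e1 : x' * (x - x * y * x) = 1 - y * x := by
      rw [mul_sub, hx'x, ← mul_assoc, ← mul_assoc, hx'x, one_mul]
    have e2 : x - x * y * x = (y' - x) * (y * x) := by
      rw [sub_mul, ← mul_assoc, hy'y, one_mul, mul_assoc]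
    rw [add_mul, e1]
    conv_lhs => rw [e2, ← mul_assoc z', hzd, one_mul]
    abel
  have hs0 : x' + z' ≠ 0 := fun e => h.nontriv (by rw [← hs, e, zero_mul])
  obtain ⟨s', hs', -, hs2⟩ := h.inv _ (h.add _ hx' _ hz') hs0
  have : x - x * y * x = s' := by
    rw [← one_mul (x - x * y * x), ← hs2, mul_assoc, hs, mul_one]
  rw [show x * y * x = x - s' by rw [← this]; abel]
  exact h.sub hx hs'

/-- no two non-zero members anticommute -/
theorem JDiv.anticomm (h : JDiv F) {u v : R} (hu : u ∈ F) (hv : v ∈ F) (hu0 : u ≠ 0) (hv0 : v ≠ 0) :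
    u * v + v * u ≠ 0 := by
  intro e
  have hvu : v * u = -(u * v) := eq_neg_of_add_eq_zero_right e
  have huv : u * v = -(v * u) := eq_neg_of_add_eq_zero_left e
  -- the good set
  let good : Set R := {m | m ∈ F ∧ u * m ∈ F ∧ v * m ∈ F ∧ u * m = m * u ∧ v * m = m * v}
  have g1 : (1 : R) ∈ good := ⟨h.one, by rwa [mul_one], by rwa [mul_one], by simp, by simp⟩
  have hcu : v * (u * u) = u * u * v := by
    rw [← mul_assoc, hvu, neg_mul, mul_assoc, hvu, mul_neg, neg_neg, mul_assoc]
  have hcv : u * (v * v) = v * v * u := by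
    rw [← mul_assoc, huv, neg_mul, mul_assoc, huv, mul_neg, neg_neg, mul_assoc]
  have step : ∀ {a b : R}, a ∈ F → a * b + b * a = 0 → b * (a * a) = a * a * b → ∀ m ∈ F, a * m ∈ F →
      b * m ∈ F → a * m = m * a → b * m = m * b →
      a * a * m ∈ F ∧ a * (a * a * m) ∈ F ∧ b * (a * a * m) ∈ F ∧
        a * (a * a * m) = a * a * m * a ∧ b * (a * a * m) = a * a * m * b := by
    intro a b ha hab hb m hm ham hbm hca hcb
    refine ⟨?_, ?_, ?_, ?_, ?_⟩
    · have := h.hua ha hm
      rwa [mul_assoc a m a, ← hca, ← mul_assoc] at this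
    · have := h.hua ha ham
      rwa [mul_assoc a (a * m) a, mul_assoc a m a, ← hca, ← mul_assoc a a m] at this
    · have := h.neg _ (h.hua ha hbm)
      rwa [mul_assoc a (b * m) a, mul_assoc b m a, ← hca, ← mul_assoc b a m,
        show b * a = -(a * b) from eq_neg_of_add_eq_zero_right hab, neg_mul, mul_neg, neg_neg,
        ← mul_assoc, ← mul_assoc, ← hb, mul_assoc b (a * a) m] at this
    · rw [mul_assoc (a * a) m a, ← hca]
      simp only [mul_assoc]
    · rw [← mul_assoc, hb, mul_assoc, hcb, ← mul_assoc]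
  have gu : ∀ m ∈ good, u * u * m ∈ good := by
    rintro m ⟨a1, a2, a3, a4, a5⟩
    exact step hu e hcu m a1 a2 a3 a4 a5
  have gv : ∀ m ∈ good, v * v * m ∈ good := by
    rintro m ⟨a1, a2, a3, a4, a5⟩
    obtain ⟨b1, b2, b3, b4, b5⟩ := step hv (by rwa [add_comm] at e) hcv m a1 a3 a2 a5 a4
    exact ⟨b1, b3, b2, b5, b4⟩
  -- the subring generated by the squares
  let M : Submonoid R := Submonoid.closure {u * u, v * v}
  have hM : ∀ a ∈ M, ∀ m ∈ good, a * m ∈ good := by
    intro a ha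
    induction ha using Submonoid.closure_induction with
    | mem z hz =>
      rcases hz with rfl | rfl
      · exact gu
      · exact gv
    | one => intro m hm; rwa [one_mul]
    | mul a b _ _ ia ib => intro m hm; rw [mul_assoc]; exact ia _ (ib m hm)
  let L : Subring R := Subring.closure {u * u, v * v}
  have hL : ∀ a ∈ L, a ∈ good := by
    intro a ha
    rw [Subring.mem_closure_iff] at ha
    induction ha using AddSubgroup.closure_induction with
    | mem z hz => simpa using hM z hz 1 g1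
    | zero => exact ⟨h.zero, by rw [mul_zero]; exact h.zero, by rw [mul_zero]; exact h.zero, by simp, by simp⟩
    | add a b _ _ ia ib =>
      obtain ⟨a1, a2, a3, a4, a5⟩ := ia
      obtain ⟨b1, b2, b3, b4, b5⟩ := ib
      exact ⟨h.add _ a1 _ b1, by rw [mul_add]; exact h.add _ a2 _ b2, by rw [mul_add]; exact h.add _ a3 _ b3,
        by rw [mul_add, add_mul, a4, b4], by rw [mul_add, add_mul, a5, b5]⟩
    | neg a _ ia =>
      obtain ⟨a1, a2, a3, a4, a5⟩ := ia
      exact ⟨h.neg _ a1, by rw [mul_neg]; exact h.neg _ a2, by rw [mul_neg]; exact h.neg _ a3,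
        by rw [mul_neg, neg_mul, a4], by rw [mul_neg, neg_mul, a5]⟩
  have hcomm : ∀ x y : L, x * y = y * x := by
    have : ∀ a ∈ ({u * u, v * v} : Set R), ∀ b ∈ ({u * u, v * v} : Set R), a * b = b * a := by
      have h' : v * v * (u * u) = u * u * (v * v) := by rw [← mul_assoc, ← hcv, mul_assoc, ← hcv, ← mul_assoc]
      rintro a (rfl | rfl) b (rfl | rfl)
      · rfl
      · exact h'.symm
      · exact h'
      · rfl
    letI := Subring.closureCommRingOfComm this
    exact fun x y => mul_comm x y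
  classical
  haveI : Nontrivial L := ⟨⟨1, 0, fun e => h.nontriv (congrArg Subtype.val e)⟩⟩
  letI : CommRing L := { (inferInstance : Ring L) with mul_comm := hcomm }
  haveI : IsDomain L := by
    haveI : NoZeroDivisors L := ⟨fun {a b} hab => by
      by_contra hc
      push Not at hc
      have ha : (a : R) ≠ 0 := fun e => hc.1 (Subtype.ext e)
      have := h.cancel_left (hL a a.2).1 ha (show (a : R) * b = a * 0 by
        rw [mul_zero]; exact congrArg Subtype.val hab)
      exact hc.2 (Subtype.ext this)⟩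
    exact NoZeroDivisors.to_isDomain L
  letI := Fintype.ofFinite L
  letI := Fintype.fieldOfDomain L
  let A : L := ⟨u * u, Subring.subset_closure (Set.mem_insert _ _)⟩
  let B : L := ⟨v * v, Subring.subset_closure (Set.mem_insert_of_mem _ rfl)⟩
  have hA : A ≠ 0 := fun e => hu0 (h.cancel_left hu hu0 (by rw [mul_zero]; exact congrArg Subtype.val e))
  have hodd : Fintype.card L % 2 = 1 := by
    refine FiniteField.odd_card_of_char_ne_two fun hc => ?_
    haveI : CharP L 2 := hc ▸ ringChar.charP L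
    have h0 : (1 : L) + 1 = 0 := CharTwo.add_self_eq_zero 1
    exact one_ne_zero (Subtype.ext (h.two 1 (congrArg Subtype.val h0)) : (1 : L) = 0)
  -- an isotropic vector
  obtain ⟨b, a, hab⟩ := FiniteField.exists_root_sum_quadratic (R := L)
    (f := Polynomial.C A * Polynomial.X ^ 2 + Polynomial.C B)
    (g := -(Polynomial.X ^ 2))
    (by
      rw [Polynomial.degree_add_eq_left_of_degree_lt]
      · exact Polynomial.degree_C_mul_X_pow 2 hA
      · rw [Polynomial.degree_C_mul_X_pow 2 hA]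
        exact lt_of_le_of_lt Polynomial.degree_C_le (by decide))
    (by rw [Polynomial.degree_neg, Polynomial.degree_X_pow]; rfl) hodd
  simp only [Polynomial.eval_add, Polynomial.eval_mul, Polynomial.eval_C, Polynomial.eval_pow,
    Polynomial.eval_X, Polynomial.eval_neg] at hab
  have hab' : (a : R) * a = u * u * (b * b) + v * v := by
    have := congrArg Subtype.val (show a * a = A * (b * b) + B by linear_combination -hab)
    simpa [A, B] using this
  obtain ⟨a1, -, -, a4, a5⟩ := hL a a.2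
  obtain ⟨-, b2, -, b4, b5⟩ := hL b b.2
  set w := u * (b : R) + v
  have hw : w ∈ F := h.add _ b2 _ hv
  have hww : w * w = a * a := by
    rw [hab', show w * w = u * b * (u * b) + (u * b * v + v * (u * b)) + v * v by simp only [w]; noncomm_ring]
    congr 1
    rw [mul_assoc u (b : R) v, ← b5, ← mul_assoc u v, ← mul_assoc v u, ← add_mul, e, zero_mul, add_zero,
      mul_assoc u (b : R) (u * b), ← mul_assoc (b : R) u b, ← b4, mul_assoc u (b : R) b, ← mul_assoc u u]
  have hwa : w * a = a * w := by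
    have hba : (b : R) * a = a * b := congrArg Subtype.val (hcomm b a)
    simp only [w]
    rw [add_mul, mul_add, mul_assoc, hba, ← mul_assoc, a4, mul_assoc, a5]
  have hnL : ∀ s : R, s ∈ L → w ≠ s := by
    intro s hs e'
    obtain ⟨-, -, -, s4, -⟩ := hL s hs
    rw [← e'] at s4
    simp only [w] at s4
    rw [mul_add, add_mul, mul_assoc u (b : R) u, ← b4, add_right_inj, hvu, eq_neg_iff_add_eq_zero] at s4
    exact hv0 (h.cancel_left hu hu0 (by rw [mul_zero, h.two _ s4]))
  have hprod : (w - a) * (w + a) = 0 := by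
    clear_value w
    rw [sub_mul, mul_add, mul_add, hww, hwa]; abel
  obtain ⟨r, -, -, hr⟩ := h.inv (w - a) (h.sub hw a1) (fun e' => hnL a a.2 (sub_eq_zero.mp e'))
  have hz : w + a = 0 := by
    rw [← one_mul (w + a), ← hr, mul_assoc, hprod, mul_zero]
  exact hnL (-(a : R)) (L.neg_mem a.2) (eq_neg_of_add_eq_zero_left hz)

theorem JDiv.eq_or_neg (h : JDiv F) {z w : R} (hz : z ∈ F) (hw : w ∈ F) (e : z * z = w * w) :
    z = w ∨ z = -w := by
  by_contra hc
  push Not at hc
  refine h.anticomm (h.sub hz hw) (h.add z hz w hw) (sub_ne_zero.mpr hc.1)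
    (fun e' => hc.2 (eq_neg_of_add_eq_zero_left e')) ?_
  rw [show (z - w) * (z + w) + (z + w) * (z - w) = (z * z - w * w) + (z * z - w * w) by noncomm_ring, e]
  simp

/-- multiplying by a fixed member gives another such set -/
theorem JDiv.isotope (h : JDiv F) {u : R} (hu : u ∈ F) (hu0 : u ≠ 0) : JDiv ((fun f => f * u) '' F) := by
  obtain ⟨u', hu', huu', hu'u⟩ := h.inv u hu hu0
  refine ⟨⟨u', hu', hu'u⟩, ?_, ?_, ?_, h.nontriv, h.two⟩
  · rintro _ ⟨x, hx, rfl⟩ _ ⟨y, hy, rfl⟩
    exact ⟨x + y, h.add x hx y hy, add_mul x y u⟩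
  · rintro _ ⟨x, hx, rfl⟩
    exact ⟨-x, h.neg x hx, neg_mul x u⟩
  · rintro _ ⟨x, hx, rfl⟩ hne
    obtain ⟨x', hx', hxx', hx'x⟩ := h.inv x hx (fun e => hne (by simp [e]))
    refine ⟨u' * x' * u' * u, ⟨u' * x' * u', h.hua hu' hx', rfl⟩, ?_, ?_⟩
    · simp only [mul_assoc, hu'u, mul_one]
      rw [← mul_assoc u u' x', huu', one_mul, hxx']
    · simp only [mul_assoc]
      rw [← mul_assoc u' u, hu'u, one_mul, ← mul_assoc x' x, hx'x, one_mul, hu'u]

theorem JDiv.conj_eq (h : JDiv F) {u z w : R} (hu : u ∈ F) (hu0 : u ≠ 0) (hz : z ∈ F) (hw : w ∈ F)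
    (e : z * u * z = w * u * w) : z = w ∨ z = -w := by
  rcases (h.isotope hu hu0).eq_or_neg ⟨z, hz, rfl⟩ ⟨w, hw, rfl⟩
    (by simp only [← mul_assoc]; rw [e]) with e' | e'
  · exact Or.inl (h.cancel_right hu hu0 e')
  · exact Or.inr (h.cancel_right hu hu0 (by rw [neg_mul]; exact e'))

/-- among three members two lie in one orbit -/
theorem JDiv.three (h : JDiv F) {x : Fin 3 → R} (hx : ∀ i, x i ∈ F) (hx0 : ∀ i, x i ≠ 0) :
    ∃ i j, i ≠ j ∧ ∃ z ∈ F, ∃ w ∈ F, z ≠ 0 ∧ w ≠ 0 ∧ z * x i * z = w * x j * w := by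
  classical
  letI := Fintype.ofFinite R
  by_contra hc
  push Not at hc
  let P : Finset R := Finset.univ.filter fun z => z ∈ F ∧ z ≠ 0
  let Q : Fin 3 → Finset R := fun i => P.image fun z => z * x i * z
  have hQ : ∀ i, Q i ⊆ P := by
    intro i y hy
    obtain ⟨z, hz, rfl⟩ := Finset.mem_image.mp hy
    obtain ⟨-, hzF, hz0⟩ := Finset.mem_filter.mp hz
    refine Finset.mem_filter.mpr ⟨Finset.mem_univ _, h.hua hzF (hx i), fun e => hx0 i ?_⟩
    have h1 : z * x i = 0 := h.cancel_right hzF hz0 (by rw [e, zero_mul])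
    exact h.cancel_left hzF hz0 (by rw [h1, mul_zero])
  have hP : 0 < P.card := Finset.card_pos.mpr
    ⟨1, Finset.mem_filter.mpr ⟨Finset.mem_univ _, h.one, h.nontriv⟩⟩
  have hhalf : ∀ i, P.card ≤ 2 * (Q i).card := fun i => by
    refine Finset.card_le_mul_card_image P 2 fun y hy => ?_
    obtain ⟨z₀, hz₀, rfl⟩ := Finset.mem_image.mp hy
    obtain ⟨-, hzF, -⟩ := Finset.mem_filter.mp hz₀
    refine (Finset.card_le_card (?_ : _ ⊆ ({z₀, -z₀} : Finset R))).trans Finset.card_le_two
    intro z hz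
    obtain ⟨hzP, hze⟩ := Finset.mem_filter.mp hz
    obtain ⟨-, hzF', -⟩ := Finset.mem_filter.mp hzP
    rcases h.conj_eq (hx i) (hx0 i) hzF' hzF hze with rfl | rfl <;> simp
  have hdisj : ∀ i j, i ≠ j → Disjoint (Q i) (Q j) := by
    intro i j hij
    rw [Finset.disjoint_left]
    intro y h1 h2
    obtain ⟨z, hz, rfl⟩ := Finset.mem_image.mp h1
    obtain ⟨w, hw, hwy⟩ := Finset.mem_image.mp h2
    obtain ⟨-, hzF, hz0⟩ := Finset.mem_filter.mp hz
    obtain ⟨-, hwF, hw0⟩ := Finset.mem_filter.mp hw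
    exact hc i j hij z hzF w hwF hz0 hw0 hwy.symm
  have hsum : (Q 0).card + (Q 1).card + (Q 2).card ≤ P.card := by
    rw [← Finset.card_union_of_disjoint (hdisj 0 1 (by decide)),
      ← Finset.card_union_of_disjoint (Finset.disjoint_union_left.mpr
        ⟨hdisj 0 2 (by decide), hdisj 1 2 (by decide)⟩)]
    exact Finset.card_le_card (Finset.union_subset (Finset.union_subset (hQ 0) (hQ 1)) (hQ 2))
  have := hhalf 0
  have := hhalf 1
  have := hhalf 2
  omega

end Cfsg.Lib.CoprimeZJ
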