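import Cfsg.Agent.CoprimeZJ.FixedPair
import Cfsg.Agent.RootSub.QuadPair.Decomp
import Cfsg.Agent.Quadratic.Thompson
import Cfsg.Prelude.Def_LocalEven

/-!
A coprime operator group on a group with a quadratic action centralises a copy of `SL₂(p)` modulo centre.
-/

set_option linter.style.haveILetI false
set_option linter.unusedSectionVars false

namespace Cfsg.Lib.CoprimeZJ

open Cfsg Cfsg.Lib.QuadPair

universe u

/-- a section `PSL₂` from a homomorphism of `SL₂` with central kernel -/
theorem involves_psl_of_hom {R : Type*} [CommRing R] {C : Type u} [Group C] [Finite C]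
    (χ : Matrix.SpecialLinearGroup (Fin 2) R →* C)
    (hker : χ.ker ≤ Subgroup.center (Matrix.SpecialLinearGroup (Fin 2) R)) :
    Cfsg.Involves (Matrix.ProjectiveSpecialLinearGroup (Fin 2) R) C := by
  let π := QuotientGroup.mk' (Subgroup.center (Matrix.SpecialLinearGroup (Fin 2) R))
  let f : χ.range →* Matrix.ProjectiveSpecialLinearGroup (Fin 2) R :=
    (QuotientGroup.lift χ.ker π (fun x hx => (QuotientGroup.eq_one_iff x).mpr (hker hx))).comp
      (QuotientGroup.quotientKerEquivRange χ).symm.toMonoidHom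
  have hf : Function.Surjective f := by
    intro y
    obtain ⟨x, rfl⟩ := QuotientGroup.mk'_surjective (Subgroup.center (Matrix.SpecialLinearGroup (Fin 2) R)) y
    refine ⟨QuotientGroup.quotientKerEquivRange χ (QuotientGroup.mk x), ?_⟩
    simp only [f, MonoidHom.comp_apply, MulEquiv.coe_toMonoidHom, MulEquiv.symm_apply_apply]
    rfl
  obtain ⟨L, hL, ⟨e⟩⟩ := Cfsg.Lib.QuadPair.exists_section_of_surjective hf
  exact ⟨χ.range, L, hL, ⟨e⟩⟩

variable {k : Type*} [Field k] {M : Type*} [AddCommGroup M] [Module k M]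
  [Finite k] [FiniteDimensional k M]

local notation "End'" => (M →ₗ[k] M)
local notation "GL'" => LinearMap.GeneralLinearGroup k M

variable {H G Γ : Subgroup (LinearMap.GeneralLinearGroup k M)}

theorem mem_centralizer_of_cj {a : End'} (ha : a * a = 0) {g : GL'} (h : cj g a = a) :
    g * xu a ha = xu a ha * g := by
  refine Units.ext ?_
  show (g : End') * (1 + a) = (1 + a) * (g : End')
  have h' := congrArg (fun x => x * (g : End')) h
  simp only [cj] at h'
  rw [mul_assoc ((g : End') * a), Units.inv_mul, mul_one] at h'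
  rw [mul_add, add_mul, mul_one, one_mul, h']

theorem conj_eq_of_commute {r g x : GL'} (h : g * x = x * g) : (r * g) * x * (r * g)⁻¹ = r * x * r⁻¹ := by
  rw [show (r * g) * x * (r * g)⁻¹ = r * (g * x * g⁻¹) * r⁻¹ by group, h, mul_inv_cancel_right]

/-- **the linear statement** -/
theorem involves_linear {p : ℕ} [Fact p.Prime] [CharP k p] (hp : p ≠ 2) (h2 : (2 : k) ≠ 0)
    (h3 : Nat.card k ≠ 3) (S : Setting H G Γ) {a₀ : End'} (ha₀ : MinEl H a₀) :
    Cfsg.Involves (Matrix.ProjectiveSpecialLinearGroup (Fin 2) (ZMod p))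
      ↥(G ⊓ Subgroup.centralizer (Γ : Set GL')) := by
  classical
  haveI : Finite M := Module.finite_of_finite k
  haveI : Finite End' := DFunLike.finite _
  haveI : Finite GL' := Finite.of_injective (fun g : GL' => (g : End')) fun _ _ h => Units.ext h
  obtain ⟨A₀, hA₀, a, c, ha, hc, hI, haA, hcA, hfix⟩ := exists_fixed_pair hp h2 h3 S ha₀
  set Γ₀ := partStab S hA₀ with hΓ₀def
  set K := partGroup H A₀ ⊓ Subgroup.centralizer (Γ₀ : Set GL') with hKdef
  -- the copy of `SL₂(p)`
  obtain ⟨Q, d, o⟩ := exists_opp h2 h3 ha hc (not_nilp hI ha.ne)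
  haveI := Fact.mk o.irr
  have hrange : (sl2Unit o.rd).range ≤ K := by
    rw [o.range_eq h2 h3 ha.sq hc.sq, Subgroup.closure_le]
    rintro _ (⟨s, rfl⟩ | ⟨s, rfl⟩)
    · refine ⟨le_partGroup haA (xu_mem_rootOf ha ((Same.refl ha).smul s)), ?_⟩
      refine Subgroup.mem_centralizer_iff.mpr fun g hg => mem_centralizer_of_cj _ ?_
      rw [cj_smul, (hfix g hg).1]
    · refine ⟨le_partGroup hcA (xu_mem_rootOf hc ((Same.refl hc).smul s)), ?_⟩
      refine Subgroup.mem_centralizer_iff.mpr fun g hg => mem_centralizer_of_cj _ ?_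
      rw [cj_smul, (hfix g hg).2]
  haveI : CharP (AdjoinRoot Q) p := charP_of_injective_algebraMap (algebraMap k (AdjoinRoot Q)).injective p
  let emb : ZMod p →+* AdjoinRoot Q := ZMod.castHom dvd_rfl _
  let ψ₀ : Matrix.SpecialLinearGroup (Fin 2) (ZMod p) →* GL' :=
    (sl2Unit o.rd).comp (Matrix.SpecialLinearGroup.map emb)
  have hψ₀ : Function.Injective ψ₀ := by
    refine (sl2Unit_injective o.rd o.inj).comp fun x y e => ?_
    refine Subtype.ext (Matrix.map_injective emb.injective ?_)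
    exact congrArg Subtype.val e
  let ψ : Matrix.SpecialLinearGroup (Fin 2) (ZMod p) →* K :=
    ψ₀.codRestrict K fun x => hrange ⟨_, rfl⟩
  -- the components in the orbit
  let ι := {P : Set (Subgroup GL') // ∃ g ∈ Γ, P = part H (conjBy A₀ g)}
  haveI : Fintype ι := Fintype.ofFinite ι
  choose rep hrep hrepP using fun i : ι => i.2
  let f : ι → (K →* GL') := fun i => (MulAut.conj (rep i)).toMonoidHom.comp K.subtype
  have himg : ∀ i (x : K), f i x ∈ partGroup H (conjBy A₀ (rep i)) := by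
    intro i x
    have hle : conjBy (partGroup H A₀) (rep i) ≤ partGroup H (conjBy A₀ (rep i)) := by
      rw [partGroup]
      simp only [conjBy, Subgroup.map_iSup]
      exact iSup₂_le fun B hB => le_partGroup (part_conj (S.cle (hrep i)) hB)
    exact hle ⟨x, x.2.1, rfl⟩
  have hcomm : Pairwise fun i j => ∀ x y, Commute (f i x) (f j y) := by
    intro i j hij x y
    have hne : part H (conjBy A₀ (rep i)) ≠ part H (conjBy A₀ (rep j)) := fun e =>
      hij (Subtype.ext ((hrepP i).trans (e.trans (hrepP j).symm)))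
    exact (Subgroup.mem_centralizer_iff.mp (partGroup_le_centralizer h2 h3 S.semi hne (himg j y)) _ (himg i x))
  let diag : K →* (ι → K) := MonoidHom.mk' (fun x _ => x) fun _ _ => rfl
  let Φ := MonoidHom.noncommPiCoprod f hcomm
  -- `Γ` permutes the factors
  have hperm : ∀ g ∈ Γ, ∃ σ : ι ≃ ι, ∀ i x, (MulAut.conj g).toMonoidHom (f i x) = f (σ i) x := by
    intro g hg
    have hmem : ∀ g ∈ Γ, ∀ i : ι, ∃ h ∈ Γ, part H (conjBy A₀ (g * rep i)) = part H (conjBy A₀ h) :=
      fun g hg i => ⟨g * rep i, mul_mem hg (hrep i), rfl⟩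
    let σ : ι → ι := fun i => ⟨part H (conjBy A₀ (g * rep i)), hmem g hg i⟩
    have hkey : ∀ g ∈ Γ, ∀ h ∈ Γ, part H (conjBy A₀ g) = part H (conjBy A₀ h) → h⁻¹ * g ∈ Γ₀ := by
      intro g hg h hh e
      refine ⟨mul_mem (inv_mem hh) hg, ?_⟩
      have hm : conjBy A₀ g ∈ part H (conjBy A₀ h) := e ▸ self_mem_part (conj_mem_roots hA₀ (S.cle hg))
      have := part_conj (inv_mem (S.cle hh)) hm
      rwa [RootSub.conjBy_conjBy, RootSub.conjBy_conjBy, inv_mul_cancel, RootSub.conjBy_one] at this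
    have hinj : Function.Injective σ := by
      intro i j e
      have h1 := hkey _ (mul_mem hg (hrep i)) _ (mul_mem hg (hrep j)) (congrArg Subtype.val e)
      rw [show (g * rep j)⁻¹ * (g * rep i) = (rep j)⁻¹ * rep i by group] at h1
      have h2' := part_conj (S.cle (hrep j)) h1.2
      rw [RootSub.conjBy_conjBy, mul_inv_cancel_left] at h2'
      exact Subtype.ext ((hrepP i).trans ((part_eq_of_mem h2').trans (hrepP j).symm))
    refine ⟨Equiv.ofBijective σ (Finite.injective_iff_bijective.mp hinj), fun i x => ?_⟩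
    have h1 := hkey _ (mul_mem hg (hrep i)) _ (hrep (σ i)) (hrepP (σ i))
    set r := rep (σ i)
    show g * (rep i * (x : GL') * (rep i)⁻¹) * g⁻¹ = r * (x : GL') * r⁻¹
    rw [← conj_eq_of_commute (r := r) (g := r⁻¹ * (g * rep i)) (Subgroup.mem_centralizer_iff.mp x.2.2 _ h1),
      mul_inv_cancel_left]
    group
  have hΦfix : ∀ x, ∀ g ∈ Γ, g * Φ (diag x) = Φ (diag x) * g := by
    intro x g hg
    obtain ⟨σ, hσ⟩ := hperm g hg
    let re : (ι → K) →* (ι → K) := MonoidHom.mk' (fun v i => v (σ.symm i)) fun _ _ => rfl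
    have e : (MulAut.conj g).toMonoidHom.comp Φ = Φ.comp re := by
      refine (MonoidHom.noncommPiCoprodEquiv (N := fun _ : ι => K)).symm.injective
        (Subtype.ext (funext fun i => MonoidHom.ext fun y => ?_))
      show (MulAut.conj g).toMonoidHom (Φ (Pi.mulSingle i y)) = Φ (re (Pi.mulSingle i y))
      have hre : re (Pi.mulSingle i y) = Pi.mulSingle (σ i) y := by
        funext j
        show Pi.mulSingle (M := fun _ : ι => K) i y (σ.symm j) = _
        rcases eq_or_ne j (σ i) with rfl | hj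
        · rw [Equiv.symm_apply_apply, Pi.mulSingle_eq_same, Pi.mulSingle_eq_same]
        · rw [Pi.mulSingle_eq_of_ne (fun e => hj (by rw [← e, Equiv.apply_symm_apply])), Pi.mulSingle_eq_of_ne hj]
      rw [hre, MonoidHom.noncommPiCoprod_mulSingle, MonoidHom.noncommPiCoprod_mulSingle]
      exact hσ i y
    have h := congrArg (fun φ => φ (diag x)) e
    have hre : re (diag x) = diag x := rfl
    simp only [MonoidHom.comp_apply, hre] at h
    exact mul_inv_eq_iff_eq_mul.mp h
  have hΦG : ∀ v, Φ v ∈ G := by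
    intro v
    show Finset.univ.noncommProd (fun i => f i (v i)) (fun _ _ _ _ h => hcomm h _ _) ∈ G
    refine Finset.noncommProd_induction _ _ _ (fun y => y ∈ G) (fun _ _ => mul_mem) (one_mem G) fun i _ => ?_
    exact (Subgroup.mem_normalizer_iff.mp (S.norm (hrep i)) _).mp (S.partGroup_le A₀ (v i).2.1)
  let χ : Matrix.SpecialLinearGroup (Fin 2) (ZMod p) →* ↥(G ⊓ Subgroup.centralizer (Γ : Set GL')) :=
    ((Φ.comp diag).comp ψ).codRestrict _ fun s =>
      ⟨hΦG _, Subgroup.mem_centralizer_iff.mpr fun g hg => hΦfix _ g hg⟩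
  refine involves_psl_of_hom χ fun s hs => ?_
  -- the kernel centralises the copy
  have hs1 : Φ (diag (ψ s)) = 1 := congrArg Subtype.val (MonoidHom.mem_ker.mp hs)
  obtain ⟨i₀, hi₀⟩ : ∃ i₀ : ι, i₀.1 = part H A₀ := ⟨⟨_, 1, one_mem Γ, rfl⟩, by
    show part H (conjBy A₀ 1) = part H A₀
    rw [RootSub.conjBy_one]⟩
  have hr0 : rep i₀ ∈ Γ₀ := ⟨hrep i₀, by
    have := hrepP i₀
    rw [hi₀] at this
    exact this ▸ self_mem_part (conj_mem_roots hA₀ (S.cle (hrep i₀)))⟩
  have hf0 : ∀ x : K, f i₀ x = (x : GL') := fun x => by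
    show rep i₀ * (x : GL') * (rep i₀)⁻¹ = x
    rw [Subgroup.mem_centralizer_iff.mp x.2.2 _ hr0, mul_inv_cancel_right]
  set v : ι → K := diag (ψ s) * (Pi.mulSingle i₀ (ψ s))⁻¹
  have hv : Φ v ∈ Subgroup.centralizer (partGroup H A₀ : Set GL') := by
    show Finset.univ.noncommProd (fun i => f i (v i)) (fun _ _ _ _ h => hcomm h _ _) ∈ _
    refine Finset.noncommProd_induction _ _ _ (fun y => y ∈ Subgroup.centralizer (partGroup H A₀ : Set GL'))
      (fun _ _ => mul_mem) (one_mem _) fun i _ => ?_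
    rcases eq_or_ne i i₀ with rfl | hi
    · have hvi : v i = 1 := by
        show ψ s * ((Pi.mulSingle (M := fun _ : ι => K) i (ψ s)) i)⁻¹ = 1
        rw [Pi.mulSingle_eq_same, mul_inv_cancel]
      rw [hvi, map_one]
      exact one_mem _
    · refine partGroup_le_centralizer h2 h3 S.semi (fun e => hi (Subtype.ext ?_)) (himg i (v i))
      rw [hrepP i, ← e, hi₀]
  have hψc : (ψ s : GL') ∈ Subgroup.centralizer (partGroup H A₀ : Set GL') := by
    have hΦs : Φ (Pi.mulSingle i₀ (ψ s)) = (ψ s : GL') := by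
      rw [MonoidHom.noncommPiCoprod_mulSingle, hf0]
    have h : Φ v = (ψ s : GL')⁻¹ := by
      rw [map_mul, hs1, one_mul, map_inv, hΦs]
    rw [h] at hv
    simpa using inv_mem hv
  rw [Subgroup.mem_center_iff]
  intro t
  refine hψ₀ ?_
  rw [map_mul, map_mul]
  exact Subgroup.mem_centralizer_iff.mp hψc _ (ψ t).2.1

end Cfsg.Lib.CoprimeZJ
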