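import Cfsg.Agent.CoprimeZJ.InvZJ
import Cfsg.Agent.Components.ZJ.Reduce
import Cfsg.Agent.Coprime.Sylow

/-!
Glauberman's factorisation for a coprime operator group whose fixed points have no section `PSL₂(p)`.
-/

set_option autoImplicit false
set_option linter.style.haveILetI false
set_option linter.unusedSectionVars false

namespace Cfsg.Lib.CoprimeZJ

open Subgroup

universe u v

variable {p : ℕ} [Fact p.Prime]

local notation "Y'" => Matrix.ProjectiveSpecialLinearGroup (Fin 2) (ZMod p)

/-- an invariant Sylow subgroup -/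
theorem exists_invariant_sylow' {A G : Type*} [Group A] [Group G] [Finite A] [Finite G] (φ : A →* MulAut G)
    (hcop : (Nat.card A).Coprime (Nat.card G)) : ∃ S : Sylow p G, Inv' φ (S : Subgroup G) := by
  haveI : Finite (G ⋊[φ] A) := Finite.of_equiv _ SemidirectProduct.equivProd.symm
  let iG : G →* G ⋊[φ] A := SemidirectProduct.inl
  let iA : A →* G ⋊[φ] A := SemidirectProduct.inr
  have hinl : Function.Injective iG := SemidirectProduct.inl_injective
  have hAK : iA.range ≤ normalizer (iG.range : Set _) := by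
    rw [show iG.range = (SemidirectProduct.rightHom (φ := φ)).ker from
      SemidirectProduct.range_inl_eq_ker_rightHom, normalizer_eq_top]
    exact le_top
  have hcop' : (Nat.card iA.range).Coprime (Nat.card iG.range) := by
    rw [← Nat.card_congr (MonoidHom.ofInjective (f := iA) SemidirectProduct.inr_injective).toEquiv,
      ← Nat.card_congr (MonoidHom.ofInjective (f := iG) hinl).toEquiv]
    exact hcop
  have hsol : Group.IsSolvable iA.range ∨ Group.IsSolvable iG.range := by
    rcases solvable_or hcop with h | h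
    · exact Or.inl (Group.isSolvable_of_surjective iA.rangeRestrict_surjective)
    · exact Or.inr (Group.isSolvable_of_surjective iG.rangeRestrict_surjective)
  obtain ⟨P, hP⟩ := Cfsg.Lib.Coprime.exists_invariant_sylow hAK hcop' hsol p
  set P' := (P : Subgroup iG.range).map iG.range.subtype
  have hP' : P' ≤ iG.range := map_subtype_le _
  refine ⟨Sylow.ofCard (P'.comap iG) ?_, fun a x hx => ?_⟩
  · rw [← card_map_of_injective hinl, map_comap_eq_self hP',
      card_map_of_injective iG.range.subtype_injective, P.card_eq_multiplicity,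
      ← Nat.card_congr (MonoidHom.ofInjective (f := iG) hinl).toEquiv]
  · rw [Sylow.coe_ofCard, mem_comap] at hx ⊢
    rw [show iG (φ a x) = iA a * iG x * (iA a)⁻¹ by rw [← map_inv]; exact SemidirectProduct.inl_aut a x]
    exact (mem_normalizer_iff.mp (hP ⟨a, rfl⟩) _).mp hx

/-- **the coprime `ZJ` factorisation** -/
theorem coprime_zj (hp5 : 5 ≤ p) {A : Type u} {G : Type v} [Group A] [Group G] [Finite A] [Finite G]
    (φ : A →* MulAut G) (hcop : (Nat.card A).Coprime (Nat.card G)) (hc : Cfsg.IsPConstrained p G)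
    (hfix : ¬ Cfsg.Involves Y' (fixedPts φ)) (S : Sylow p G) :
    Cfsg.pPrimeCore p G ⊔ normalizer (Cfsg.centerThompsonAOf (S : Subgroup G) : Set G) = ⊤ := by
  set N := Cfsg.pPrimeCore p G with hNdef
  haveI : N.Characteristic := Cfsg.Lib.Components.pPrimeCore_characteristic
  have hN : (Nat.card N).Coprime p := Cfsg.Lib.Components.coprime_card_pPrimeCore p
  have hNi : Inv' φ N := Inv'.of_characteristic φ N
  set π := QuotientGroup.mk' N
  set ψ := quotAction φ hNi
  obtain ⟨T, hT⟩ := exists_invariant_sylow' (p := p) ψ (coprime_quot hcop)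
  have hZi : Inv' ψ (⨅ B ∈ Cfsg.Lib.Fusion.maxAb (T : Subgroup (G ⧸ N)), B) := by
    rw [← Cfsg.Lib.Fusion.centerThompsonAOf_eq]
    intro a x hx
    have := Cfsg.Lib.ZJ.centerThompsonAOf_map (ψ a) (T : Subgroup (G ⧸ N))
    rw [hT.map_eq] at this
    exact this.le ⟨x, hx, rfl⟩
  have hst : StableInv p ψ := fun B _ hBi hB a _ hq =>
    stable_invariant hp5 _ _ ψ (coprime_quot hcop) (not_involves_quot φ hNi hcop hfix) B hBi hB rfl a hq
  have hnT : (Cfsg.centerThompsonAOf (T : Subgroup (G ⧸ N))).Normal := by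
    rw [Cfsg.Lib.Fusion.centerThompsonAOf_eq]
    exact inter_normal hst (Cfsg.Lib.ZJ.charP_quotient hN hc hNdef)
      (Cfsg.Lib.ZJ.family_maxAb (by omega) (Cfsg.Lib.ZJ.stronglyClosed_self _)) hZi
  -- every Sylow subgroup
  obtain ⟨g, hg⟩ := MulAction.exists_smul_eq (G ⧸ N) T (S.mapSurjective (QuotientGroup.mk'_surjective N))
  have hn : (Cfsg.centerThompsonAOf ((S : Subgroup G).map π)).Normal := by
    show (Cfsg.centerThompsonAOf
      ((S.mapSurjective (QuotientGroup.mk'_surjective N) : Sylow p (G ⧸ N)) : Subgroup (G ⧸ N))).Normal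
    rw [← hg, Cfsg.Lib.Transfer.sylow_smul_coe, ← Cfsg.Lib.ZJ.centerThompsonAOf_map,
      Cfsg.Lib.Transfer.map_conj_eq_self_iff.mpr (by rw [normalizer_eq_top_iff.mpr hnT]; exact mem_top g)]
    exact hnT
  have hinj := Cfsg.Lib.ZJ.injOn_mk hN S.2
  rw [← Cfsg.Lib.ZJ.centerThompsonAOf_map_injOn hinj] at hn
  set Z := Cfsg.centerThompsonAOf (S : Subgroup G)
  haveI := hn
  set M := (Z.map π).comap π
  have hM : M = N ⊔ Z := by
    show (Z.map π).comap π = _
    rw [comap_map_eq, QuotientGroup.ker_mk', sup_comm]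
  have hZP : Z ≤ (S : Subgroup G) :=
    (inf_le_left : Z ≤ Cfsg.thompsonSubgroupAOf (S : Subgroup G)).trans (map_subtype_le _)
  have hPM : (S : Subgroup G) ⊓ M = Z := by
    refine le_antisymm (fun x hx => ?_) (le_inf hZP (hM ▸ le_sup_right))
    obtain ⟨z, hz, hzx⟩ := hx.2
    rw [← hinj (hZP hz) hx.1 hzx]
    exact hz
  have hfr := Cfsg.Lib.ZJ.sup_normalizer_inf_eq_top M S
  rw [hPM, hM, sup_assoc, sup_eq_right.mpr le_normalizer] at hfr
  exact hfr

/-- isomorphic fields give isomorphic `PSL₂` -/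
theorem involves_psl_iso {K L : Type*} [CommRing K] [CommRing L] (e : K ≃+* L) {G : Type*} [Group G]
    (h : Cfsg.Involves (Matrix.ProjectiveSpecialLinearGroup (Fin 2) K) G) :
    Cfsg.Involves (Matrix.ProjectiveSpecialLinearGroup (Fin 2) L) G := by
  let f : Matrix.SpecialLinearGroup (Fin 2) K ≃* Matrix.SpecialLinearGroup (Fin 2) L :=
    MonoidHom.toMulEquiv (Matrix.SpecialLinearGroup.map e.toRingHom)
      (Matrix.SpecialLinearGroup.map e.symm.toRingHom)
      (MonoidHom.ext fun x => Subtype.ext (Matrix.ext fun i j => e.symm_apply_apply _))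
      (MonoidHom.ext fun x => Subtype.ext (Matrix.ext fun i j => e.apply_symm_apply _))
  have hf : (center (Matrix.SpecialLinearGroup (Fin 2) K)).map f.toMonoidHom = center _ := by
    refine le_antisymm (map_le_iff_le_comap.mpr fun x hx => ?_) fun y hy => ⟨f.symm y, ?_, f.apply_symm_apply y⟩
    · refine mem_center_iff.mpr fun z => ?_
      obtain ⟨z, rfl⟩ := f.surjective z
      show f z * f x = f x * f z
      rw [← map_mul, ← map_mul, mem_center_iff.mp hx z]
    · refine mem_center_iff.mpr fun z => f.injective ?_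
      rw [map_mul, map_mul, f.apply_symm_apply, mem_center_iff.mp hy (f z)]
  obtain ⟨U, R, hR, ⟨e'⟩⟩ := h
  exact ⟨U, R, hR, ⟨e'.trans (QuotientGroup.congr _ _ f hf)⟩⟩

end Cfsg.Lib.CoprimeZJ
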