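import Cfsg.Agent.RootSub.QuadPair.RootSet
import Cfsg.Agent.CoprimeZJ.JordanDiv

/-!
The opposites of a minimal quadratic element: involutions and the action of the root subgroup.
-/

set_option linter.style.haveILetI false
set_option linter.unusedSectionVars false

namespace Cfsg.Lib.CoprimeZJ

open Cfsg Cfsg.Lib.QuadPair

variable {k : Type*} [Field k] {M : Type*} [AddCommGroup M] [Module k M]

local notation "End'" => (M →ₗ[k] M)
local notation "GL'" => LinearMap.GeneralLinearGroup k M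

variable {H : Subgroup (LinearMap.GeneralLinearGroup k M)} {a a' c c' c₁ c₂ x y z u : M →ₗ[k] M}

/-! ### Uniqueness -/

theorem proj_eq (h : Inv2 a c) (h' : Inv2 a' c') (hk : LinearMap.ker a' = LinearMap.ker a)
    (hr : LinearMap.range a' = LinearMap.range a) (hk' : LinearMap.ker c' = LinearMap.ker c)
    (hr' : LinearMap.range c' = LinearMap.range c) : a' * c' + c' * a' = a * c + c * a := by
  have A := h.proj_same (x := a') hk.ge hr.le
  have C := h.symm.proj_same (x := c') hk'.ge hr'.le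
  rw [add_comm (c * a)] at C
  have A' := h'.proj_same (x := a) hk.le hr.ge
  have C' := h'.symm.proj_same (x := c) hk'.le hr'.ge
  rw [add_comm (c' * a')] at C'
  have e1 : (a * c + c * a) * (a' * c' + c' * a') = a' * c' + c' * a' := by
    rw [mul_add, ← mul_assoc _ a', ← mul_assoc _ c', A.1, C.1]
  have e2 : (a * c + c * a) * (a' * c' + c' * a') = a * c + c * a := by
    rw [add_mul, mul_assoc a c, mul_assoc c a, C'.2, A'.2]
  rw [← e1, e2]

theorem opp_unique (h₁ : Inv2 a c₁) (h₂ : Inv2 a c₂) (hP : a * c₁ + c₁ * a = a * c₂ + c₂ * a)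
    (h21 : c₂ * c₁ = 0) : c₁ = c₂ := by
  have e1 : c₂ = c₂ * a * c₁ := by
    have := (h₂.symm.proj_left).2
    rw [add_comm, ← hP, mul_add, ← mul_assoc c₂ c₁, h21, zero_mul, add_zero, ← mul_assoc] at this
    exact this.symm
  have e2 : c₁ = c₂ * a * c₁ := by
    have := (h₁.symm.proj_left).1
    rw [add_comm, hP, add_mul, mul_assoc a c₂, h21, mul_zero, zero_add] at this
    exact this.symm
  rw [e2, ← e1]

/-! ### The shift between two opposites -/

/-- the shift between two opposites of `a` -/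
def shift (a c₁ c₂ : M →ₗ[k] M) : M →ₗ[k] M := a * c₁ - a * c₂

section shift

variable (h₁ : Inv2 a c₁) (h₂ : Inv2 a c₂)

include h₁ h₂

theorem shift_mul_self_right : shift a c₁ c₂ * a = 0 := by
  rw [shift, sub_mul, h₁.aca, h₂.aca, sub_self]

theorem shift_mul_self_left : a * shift a c₁ c₂ = 0 := by
  rw [shift, mul_sub, ← mul_assoc, ← mul_assoc, h₁.aa, zero_mul, zero_mul, sub_self]

theorem shift_sq : shift a c₁ c₂ * shift a c₁ c₂ = 0 := by
  conv_lhs => arg 2; rw [shift]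
  rw [mul_sub, ← mul_assoc, ← mul_assoc, shift_mul_self_right h₁ h₂, zero_mul, zero_mul, sub_self]

variable (hP : a * c₁ + c₁ * a = a * c₂ + c₂ * a)

include hP

theorem shift_range : LinearMap.range (shift a c₁ c₂) ≤ LinearMap.range a := by
  rintro _ ⟨v, rfl⟩
  exact ⟨(c₁ - c₂) v, by rw [shift, ← mul_sub]; rfl⟩

theorem shift_ker : LinearMap.ker a ≤ LinearMap.ker (shift a c₁ c₂) := by
  intro v hv
  rw [LinearMap.mem_ker] at hv ⊢
  have := congrArg (fun f : End' => f v) hP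
  simp only [LinearMap.add_apply, Module.End.mul_apply, hv, map_zero, add_zero] at this
  rw [shift, LinearMap.sub_apply, Module.End.mul_apply, Module.End.mul_apply, this, sub_self]

theorem mid_one : a * c₂ * c₁ * a = a * c₂ - a * c₁ := by
  have e : c₁ * a = a * c₂ + c₂ * a - a * c₁ := by rw [← hP]; abel
  rw [mul_assoc (a * c₂), e, mul_sub, mul_add, ← mul_assoc, ← mul_assoc, ← mul_assoc, h₂.aca,
    mul_assoc a c₂ c₂, h₂.cc, mul_zero, zero_mul, add_zero]

theorem shift_two : a * (c₁ * c₂ - c₂ * c₁) * a = shift a c₁ c₂ + shift a c₁ c₂ := by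
  rw [mul_sub, sub_mul, ← mul_assoc, ← mul_assoc, mid_one h₁ h₂ hP,
    mid_one h₂ h₁ hP.symm, shift]
  abel

theorem conj_shift : (1 + shift a c₁ c₂) * c₁ * (1 - shift a c₁ c₂) = c₂ := by
  have hXc : shift a c₁ c₂ * c₁ = -(a * c₂ * c₁) := by
    rw [shift, sub_mul, mul_assoc a c₁, h₁.cc, mul_zero, zero_sub]
  have hcX : c₁ * shift a c₁ c₂ = c₁ - c₁ * a * c₂ := by
    rw [shift, mul_sub, ← mul_assoc, ← mul_assoc, h₁.cac]
  have hc : c₁ * a - a * c₂ * c₁ * a = c₂ * a := by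
    rw [mid_one h₁ h₂ hP, show c₁ * a = a * c₂ + c₂ * a - a * c₁ by rw [← hP]; abel]
    abel
  calc (1 + shift a c₁ c₂) * c₁ * (1 - shift a c₁ c₂)
      = c₁ - c₁ * shift a c₁ c₂ + (shift a c₁ c₂ * c₁ - shift a c₁ c₂ * c₁ * shift a c₁ c₂) := by
        noncomm_ring
    _ = (c₁ * a - a * c₂ * c₁ * a) * c₂ := by
        rw [hcX, hXc, neg_mul, mul_assoc (a * c₂) c₁ (shift a c₁ c₂), hcX]
        noncomm_ring
    _ = c₂ := by rw [hc, h₂.cac]

theorem shift_mid (hy : Same H c₂ y) (hc₂ : MinEl H c₂) (hI : Inv2 c₁ y) :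
    shift a c₁ c₂ * y * shift a c₁ c₂ = -a := by
  have hy2 : y * c₂ = 0 := hy.mul_eq_zero hc₂ (Same.refl hc₂)
  have h2y : c₂ * y = 0 := (Same.refl hc₂).mul_eq_zero hc₂ hy
  have hyP := (h₂.symm.proj_same hy.le_ker hy.range_le).2
  have hyac : y * a * c₂ = y := by
    rw [mul_add, ← mul_assoc, hy2, zero_mul, zero_add, ← mul_assoc] at hyP
    exact hyP
  have e1 : y * shift a c₁ c₂ = -(y * c₁ * a) := by
    rw [shift, mul_sub, ← mul_assoc, ← mul_assoc, hyac]
    have e : y * (a * c₁ + c₁ * a) = y := by rw [hP, add_comm (a * c₂)]; exact (h₂.symm.proj_same hy.le_ker hy.range_le).2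
    rw [mul_add, ← mul_assoc, ← mul_assoc] at e
    conv_lhs => arg 2; rw [← e]
    abel
  rw [mul_assoc, e1, shift, sub_mul, mul_assoc a c₂, mul_neg, mul_neg, ← mul_assoc c₂, ← mul_assoc c₂, h2y,
    zero_mul, zero_mul, neg_zero, mul_zero, sub_zero, show a * c₁ * (y * c₁ * a) = a * (c₁ * y * c₁) * a by
      simp only [mul_assoc], hI.aca, h₁.aca]

end shift

variable [FiniteDimensional k M]

/-! ### The conjugation by the element `w` -/

/-- the element `(1 + a)(1 - c)(1 + a)` -/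
def weyl (ha : a * a = 0) (hc : c * c = 0) : GL' := xu a ha * (xu c hc)⁻¹ * xu a ha

theorem weyl_mem {G : Subgroup GL'} (ha : a * a = 0) (hc : c * c = 0) (h1 : xu a ha ∈ G) (h2 : xu c hc ∈ G) :
    weyl ha hc ∈ G := mul_mem (mul_mem h1 (inv_mem h2)) h1

theorem weyl_val (hI : Inv2 a c) :
    ((weyl hI.aa hI.cc : GL') : End') = 1 - (a * c + c * a) + a - c ∧
      (↑(weyl hI.aa hI.cc)⁻¹ : End') = 1 - (a * c + c * a) - a + c := by
  constructor
  · show (1 + a) * (1 - c) * (1 + a) = _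
    rw [show (1 + a) * (1 - c) * (1 + a) = 1 + a - c - a * c + a + a * a - c * a - a * c * a by noncomm_ring,
      hI.aa, hI.aca]
    abel
  · show ((xu a hI.aa * (xu c hI.cc)⁻¹ * xu a hI.aa)⁻¹ : GL').val = _
    rw [_root_.mul_inv_rev, _root_.mul_inv_rev, inv_inv]
    show (1 - a) * ((1 + c) * (1 - a)) = _
    rw [show (1 - a) * ((1 + c) * (1 - a)) = 1 - a + c - a * c - a + a * a - c * a + a * c * a by noncomm_ring,
      hI.aa, hI.aca]
    abel

theorem weyl_conj (hI : Inv2 a c) (hc : MinEl H c) (hy : Same H c y) :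
    ((weyl hI.aa hI.cc : GL') : End') * y * (↑(weyl hI.aa hI.cc)⁻¹ : End') = -(a * y * a) := by
  have hcy : c * y = 0 := (Same.refl hc).mul_eq_zero hc hy
  have hyc : y * c = 0 := hy.mul_eq_zero hc (Same.refl hc)
  have hP := hI.symm.proj_same hy.le_ker hy.range_le
  rw [add_comm (c * a)] at hP
  rw [(weyl_val hI).1, (weyl_val hI).2]
  rw [sub_mul _ c, add_mul _ a, sub_mul (1 : End') (a * c + c * a), one_mul, hP.1, sub_self, zero_add, hcy,
    sub_zero, mul_add, mul_sub, mul_sub, mul_one, mul_assoc a y (a * c + c * a), hP.2, sub_self, zero_sub,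
    mul_assoc a y c, hyc, mul_zero, add_zero]

theorem weyl_conj' (hI : Inv2 a c) (ha : MinEl H a) (hu : Same H a u) :
    ((weyl hI.aa hI.cc : GL') : End') * u * (↑(weyl hI.aa hI.cc)⁻¹ : End') = -(c * u * c) := by
  have hau : a * u = 0 := (Same.refl ha).mul_eq_zero ha hu
  have hua : u * a = 0 := hu.mul_eq_zero ha (Same.refl ha)
  have hP := hI.proj_same hu.le_ker hu.range_le
  rw [(weyl_val hI).1, (weyl_val hI).2]
  rw [sub_mul _ c, add_mul _ a, sub_mul (1 : End') (a * c + c * a), one_mul, hP.1, sub_self, zero_add, hau,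
    zero_sub, mul_add, mul_sub, mul_sub, mul_one, neg_mul, neg_mul, neg_mul, mul_assoc c u (a * c + c * a), hP.2,
    sub_self, zero_sub, mul_assoc c u a, hua, mul_zero, neg_zero, neg_zero, zero_add]

/-- transport from the opposite root -/
theorem same_mid (hI : Inv2 a c) (ha : MinEl H a) (hc : MinEl H c) (hy : Same H c y) :
    Same H a (a * y * a) := by
  have hw : weyl hI.aa hI.cc ∈ H := weyl_mem _ _ ha.toFam.xu_mem_one hc.toFam.xu_mem_one
  have hF : Fam H (-(a * y * a)) := weyl_conj hI hc hy ▸ hy.fam.conj hw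
  have := same_of_le ha hF (by
      rintro _ ⟨v, rfl⟩
      exact neg_mem ⟨(y * a) v, by rw [mul_assoc]; rfl⟩) (fun v hv => by
      rw [LinearMap.mem_ker] at hv ⊢
      rw [LinearMap.neg_apply, Module.End.mul_apply, Module.End.mul_apply, hv, map_zero, map_zero, neg_zero])
  simpa using this.neg

theorem not_nilp (hI : Inv2 a c) (ha : a ≠ 0) : ¬ IsNilpotent (a * c) := fun h => by
  have hid : a * c * (a * c) = a * c := by rw [← mul_assoc, hI.aca]
  have := (show IsIdempotentElem (a * c) from hid).eq_zero_of_isNilpotent h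
  exact ha (by rw [← hI.aca, this, zero_mul])

theorem exists_opposite (h2 : (2 : k) ≠ 0) (h3 : Nat.card k ≠ 3) (hI : Inv2 a c) (ha : MinEl H a)
    (hc : MinEl H c) (hz : Same H a z) (hz0 : z ≠ 0) :
    ∃ y, Same H c y ∧ y ≠ 0 ∧ Inv2 z y ∧ z * y + y * z = a * c + c * a := by
  obtain ⟨mz, kz, rz⟩ := hz.data hz0
  obtain ⟨y, hy, hy0, hIy⟩ := opposite h2 h3 mz hc fun h => not_nilp hI ha.ne
    ((nilp_congr_iff h2 h3 ha hc hz hz0 (Same.refl hc) hc.ne).mp h)
  obtain ⟨-, ky, ry⟩ := hy.data hy0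
  exact ⟨y, hy, hy0, hIy, proj_eq hI hIy kz rz ky ry⟩

theorem mul_sandwich (hI : Inv2 a c) (ha : MinEl H a) (hz : Same H a z) : z * c * a = z := by
  have h := (hI.proj_same hz.le_ker hz.range_le).2
  rwa [mul_add, ← mul_assoc, hz.mul_eq_zero ha (Same.refl ha), zero_mul, zero_add, ← mul_assoc] at h

/-- conjugation inducing `u ↦ z c u c z` -/
theorem exists_torus (h2 : (2 : k) ≠ 0) (h3 : Nat.card k ≠ 3) (hI : Inv2 a c) (ha : MinEl H a)
    (hc : MinEl H c) {G : Subgroup GL'} (hGH : G ≤ H)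
    (hG : ∀ (x : End') (hx : x * x = 0), xu x hx ∈ H → xu x hx ∈ G)
    (hz : Same H a z) (hz0 : z ≠ 0) :
    ∃ g ∈ G, conjBy (rootOf ha) g = rootOf ha ∧ conjBy (rootOf hc) g = rootOf hc ∧
      ∀ u, Same H a u → (g : End') * u * (↑g⁻¹ : End') = z * c * u * c * z := by
  obtain ⟨y, hy, hy0, hIy, hP⟩ := exists_opposite h2 h3 hI ha hc hz hz0
  obtain ⟨mz, kz, rz⟩ := hz.data hz0
  obtain ⟨my, ky, ry⟩ := hy.data hy0
  set g := weyl hIy.aa hIy.cc * weyl hI.aa hI.cc with hg
  have hw₁ : weyl hI.aa hI.cc ∈ G := weyl_mem _ _ (hG _ _ ha.toFam.xu_mem_one) (hG _ _ hc.toFam.xu_mem_one)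
  have hw₂ : weyl hIy.aa hIy.cc ∈ G := weyl_mem _ _ (hG _ _ mz.toFam.xu_mem_one) (hG _ _ my.toFam.xu_mem_one)
  have hgG : g ∈ G := mul_mem hw₂ hw₁
  have hgH : g ∈ H := hGH hgG
  have hact : ∀ u, Same H a u → (g : End') * u * (↑g⁻¹ : End') = z * c * u * c * z := by
    intro u hu
    have hcu : Same H y (c * u * c) := (same_mid hI.symm hc ha hu).trans ky.symm ry.symm
    rw [hg, Units.val_mul, _root_.mul_inv_rev, Units.val_mul,
      show ((weyl hIy.aa hIy.cc : GL') : End') * ↑(weyl hI.aa hI.cc) * u *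
        (↑(weyl hI.aa hI.cc)⁻¹ * ↑(weyl hIy.aa hIy.cc)⁻¹) = ↑(weyl hIy.aa hIy.cc) *
        (↑(weyl hI.aa hI.cc) * u * ↑(weyl hI.aa hI.cc)⁻¹) * (↑(weyl hIy.aa hIy.cc)⁻¹ : End') by simp only [mul_assoc],
      weyl_conj' hI ha hu, mul_neg, neg_mul, weyl_conj hIy my hcu, neg_neg]
    simp only [mul_assoc]
  refine ⟨g, hgG, ?_, ?_, hact⟩
  · rw [rootOf_conj ha hgH]
    refine rootOf_congr _ _ ?_ ?_
    all_goals
      have hs : Same H a (z * c * a * c * z) := by
        rw [show z * c * a * c * z = z * (c * a * c) * z by simp only [mul_assoc], hI.cac]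
        exact (same_mid (a := z) (c := y) hIy mz my ((Same.refl hc).trans ky.symm ry.symm)).trans kz rz
      rw [hact a (Same.refl ha)]
      have hne : z * c * a * c * z ≠ 0 := fun e => by
        rw [← hact a (Same.refl ha)] at e
        exact (ha.conj hgH).ne e
      first | exact (hs.data hne).2.1 | exact (hs.data hne).2.2
  · have hc1 : ((weyl hI.aa hI.cc : GL') : End') * c * (↑(weyl hI.aa hI.cc)⁻¹ : End') = -a := by
      rw [weyl_conj hI hc (Same.refl hc), hI.aca]
    have hg1 : (g : End') * c * (↑g⁻¹ : End') = y * a * y := by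
      rw [hg, Units.val_mul, _root_.mul_inv_rev, Units.val_mul,
        show ((weyl hIy.aa hIy.cc : GL') : End') * ↑(weyl hI.aa hI.cc) * c *
          (↑(weyl hI.aa hI.cc)⁻¹ * ↑(weyl hIy.aa hIy.cc)⁻¹) = ↑(weyl hIy.aa hIy.cc) *
          (↑(weyl hI.aa hI.cc) * c * ↑(weyl hI.aa hI.cc)⁻¹) * (↑(weyl hIy.aa hIy.cc)⁻¹ : End') by
            simp only [mul_assoc],
        hc1, mul_neg, neg_mul, weyl_conj' hIy mz ((Same.refl ha).trans kz.symm rz.symm), neg_neg]
    rw [rootOf_conj hc hgH]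
    have hs : Same H c (y * a * y) :=
      (same_mid hIy.symm my mz ((Same.refl ha).trans kz.symm rz.symm)).trans ky ry
    have hne : y * a * y ≠ 0 := fun e => (hc.conj hgH).ne (hg1.trans e)
    exact rootOf_congr _ _ (by rw [hg1]; exact (hs.data hne).2.1) (by rw [hg1]; exact (hs.data hne).2.2)

end Cfsg.Lib.CoprimeZJ
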