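import Cfsg.Agent.CoprimeZJ.Opposites

/-!
The root subgroup is a Jordan division set; it is transitive on the opposites with the same involution.
-/

set_option linter.style.haveILetI false
set_option linter.unusedSectionVars false

namespace Cfsg.Lib.CoprimeZJ

open Cfsg Cfsg.Lib.QuadPair

variable {k : Type*} [Field k] {M : Type*} [AddCommGroup M] [Module k M]

local notation "End'" => (M →ₗ[k] M)
local notation "GL'" => LinearMap.GeneralLinearGroup k M

variable {H : Subgroup (LinearMap.GeneralLinearGroup k M)} {a c c₁ c₂ x y z u : M →ₗ[k] M}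

/-- `z ↦ z c` as an endomorphism of the range of `a` -/
def corner (a c z : M →ₗ[k] M) : Module.End k (LinearMap.range a) :=
  ((a * c).codRestrict (LinearMap.range a) fun v => ⟨c v, rfl⟩).comp ((z * c).comp (LinearMap.range a).subtype)

theorem range_proj (hI : Inv2 a c) {v : M} (hv : v ∈ LinearMap.range a) : a (c v) = v := by
  obtain ⟨w, rfl⟩ := hv
  exact congrArg (fun f : End' => f w) hI.aca

theorem corner_apply (hI : Inv2 a c) (hr : LinearMap.range z ≤ LinearMap.range a) (v : LinearMap.range a) :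
    (corner a c z v : M) = z (c v) :=
  range_proj hI (hr ⟨c v, rfl⟩)

theorem corner_self (hI : Inv2 a c) : corner a c a = 1 :=
  LinearMap.ext fun v => Subtype.ext (by rw [corner_apply hI le_rfl]; exact range_proj hI v.2)

theorem corner_add (z w : End') : corner a c (z + w) = corner a c z + corner a c w := by
  rw [corner, corner, corner, add_mul, LinearMap.add_comp, LinearMap.comp_add]

theorem corner_zero : corner a c 0 = 0 := by
  rw [corner, zero_mul, LinearMap.zero_comp, LinearMap.comp_zero]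

theorem corner_neg (z : End') : corner a c (-z) = -corner a c z :=
  eq_neg_of_add_eq_zero_left (by rw [← corner_add, neg_add_cancel, corner_zero])

theorem corner_mul (hI : Inv2 a c) {w : End'} (hz : LinearMap.range z ≤ LinearMap.range a)
    (hw : LinearMap.range w ≤ LinearMap.range a) :
    corner a c (z * c * w) = corner a c z * corner a c w := by
  have h : LinearMap.range (z * c * w) ≤ LinearMap.range a := by
    rintro _ ⟨v, rfl⟩; exact hz ⟨c (w v), rfl⟩
  exact LinearMap.ext fun v => Subtype.ext (by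
    rw [corner_apply hI h, Module.End.mul_apply, Module.End.mul_apply, Module.End.mul_apply,
      corner_apply hI hz, corner_apply hI hw])

theorem corner_inj (hI : Inv2 a c) {w : End'} (hz : z * c * a = z) (hw : w * c * a = w)
    (hzr : LinearMap.range z ≤ LinearMap.range a) (hwr : LinearMap.range w ≤ LinearMap.range a)
    (e : corner a c z = corner a c w) : z = w := by
  refine LinearMap.ext fun v => ?_
  rw [← hz, ← hw]
  have := congrArg (fun f : Module.End k (LinearMap.range a) => (f ⟨a v, v, rfl⟩ : M)) e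
  simp only [corner_apply hI hzr, corner_apply hI hwr] at this
  exact this

theorem sq_of_mid {R : Type*} [Ring R] [Finite R] {φ ζ ζ' : R} (h : φ * ζ * φ = -1) (h' : ζ' * ζ = 1) :
    φ * φ = -ζ' := by
  have h1 : -φ * (ζ * φ) = 1 := by rw [neg_mul, ← mul_assoc, h, neg_neg]
  have h2 := mul_eq_one_comm.mp h1
  rw [mul_neg, mul_assoc] at h2
  rw [← one_mul (φ * φ), ← h', mul_assoc, ← neg_eq_iff_eq_neg.mpr h2.symm |>.trans rfl, mul_neg, mul_one]

variable [Finite k] [FiniteDimensional k M]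

/-- the image of a root subgroup -/
def rootSet (H : Subgroup (LinearMap.GeneralLinearGroup k M)) (a c : M →ₗ[k] M) :
    Set (Module.End k (LinearMap.range a)) :=
  {r | ∃ z, Same H a z ∧ corner a c z = r}

theorem rootSet_jdiv (h2 : (2 : k) ≠ 0) (h3 : Nat.card k ≠ 3) (hI : Inv2 a c) (ha : MinEl H a)
    (hc : MinEl H c) : Finite (Module.End k (LinearMap.range a)) ∧ JDiv (rootSet H a c) := by
  haveI : Finite M := Module.finite_of_finite k
  haveI hfin : Finite (Module.End k (LinearMap.range a)) := DFunLike.finite _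
  refine ⟨hfin, ⟨a, Same.refl ha, corner_self hI⟩, ?_, ?_, ?_, ?_, ?_⟩
  · rintro _ ⟨z, hz, rfl⟩ _ ⟨w, hw, rfl⟩
    exact ⟨z + w, hz.add ha hw, corner_add z w⟩
  · rintro _ ⟨z, hz, rfl⟩
    exact ⟨-z, hz.neg, corner_neg z⟩
  · rintro _ ⟨z, hz, rfl⟩ hne
    have hz0 : z ≠ 0 := fun e => hne (by rw [e, corner_zero])
    obtain ⟨y, hy, hy0, hIy, hP⟩ := exists_opposite h2 h3 hI ha hc hz hz0
    have hs : Same H a (a * y * a) := same_mid hI ha hc hy
    have e1 : corner a c z * corner a c (a * y * a) = 1 := by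
      rw [← corner_mul hI hz.range_le hs.range_le,
        show z * c * (a * y * a) = z * c * a * y * a by simp only [mul_assoc], mul_sandwich hI ha hz]
      have e2 := congrArg (fun f : End' => f * a) hP
      simp only [add_mul] at e2
      rw [mul_assoc y z a, hz.mul_eq_zero ha (Same.refl ha), mul_zero, add_zero, hI.aca, mul_assoc c a a, hI.aa,
        mul_zero, add_zero] at e2
      rw [e2, corner_self hI]
    exact ⟨_, ⟨_, hs, rfl⟩, e1, mul_eq_one_comm.mp e1⟩
  · intro e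
    obtain ⟨v, hv⟩ : ∃ v, a v ≠ 0 := by
      by_contra h
      push Not at h
      exact ha.ne (LinearMap.ext h)
    exact hv (congrArg (fun f : Module.End k (LinearMap.range a) => (f ⟨a v, v, rfl⟩ : M)) e)
  · intro r hr
    rw [← two_smul k r] at hr
    exact (smul_eq_zero.mp hr).resolve_left h2

theorem shift_eq_zero_of_nilp (h2 : (2 : k) ≠ 0) (ha : MinEl H a) (h₁ : Inv2 a c₁) (h₂ : Inv2 a c₂)
    (hP : a * c₁ + c₁ * a = a * c₂ + c₂ * a) (m₁ : MinEl H c₁) (m₂ : MinEl H c₂)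
    (hn : IsNilpotent (c₁ * c₂)) : shift a c₁ c₂ = 0 := by
  by_cases hc : c₁ * c₂ = c₂ * c₁
  · have := shift_two h₁ h₂ hP
    rw [hc, sub_self, mul_zero, zero_mul, ← two_smul k] at this
    exact (smul_eq_zero.mp this.symm).resolve_left h2
  exfalso
  have Q := commPair h2 m₁ m₂ hn hc
  have key : ∀ {c₁ c₂ : End'}, Inv2 a c₁ → Inv2 a c₂ → a * c₁ + c₁ * a = a * c₂ + c₂ * a → MinEl H c₁ →
      c₁ * c₂ * c₁ = 0 → MinEl H (c₁ * c₂ - c₂ * c₁) →
      LinearMap.range (c₁ * c₂ - c₂ * c₁) = LinearMap.range c₁ := by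
    intro c₁ c₂ h₁ h₂ hP m₁ h121 mX
    refine Submodule.eq_of_le_of_finrank_le ?_ (mX.rk_eq m₁ |>.ge)
    rintro _ ⟨v, rfl⟩
    have hw1 : c₁ * (c₁ * c₂ - c₂ * c₁) = 0 := by
      rw [mul_sub, ← mul_assoc, ← mul_assoc, h₁.cc, zero_mul, h121, sub_self]
    have hw2 : (a * c₁ + c₁ * a) * (c₁ * c₂ - c₂ * c₁) = c₁ * c₂ - c₂ * c₁ := by
      rw [mul_sub, ← mul_assoc, ← mul_assoc]
      nth_rewrite 2 [hP]
      rw [add_comm (a * c₁), h₁.symm.proj_left.1, add_comm (a * c₂), h₂.symm.proj_left.1]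
    rw [← hw2, add_mul, mul_assoc a c₁, hw1, mul_zero, zero_add]
    exact ⟨(a * (c₁ * c₂ - c₂ * c₁)) v, rfl⟩
  have r1 := key h₁ h₂ hP m₁ Q.aba Q.minX
  have hne : -(c₁ * c₂ - c₂ * c₁) ≠ 0 := neg_ne_zero.mpr Q.minX.ne
  have r2 := key h₂ h₁ hP.symm m₂ Q.bab (by rw [← neg_sub]; exact Q.minX.neg)
  rw [← neg_sub, LinearMap.range_neg, r1] at r2
  refine hc ?_
  rw [mul_eq_zero_of_range (r2.ge.trans m₁.toFam.range_le_ker),
    mul_eq_zero_of_range (r2.le.trans m₂.toFam.range_le_ker)]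

theorem corner_shift_sq (h2 : (2 : k) ≠ 0) (h3 : Nat.card k ≠ 3) (ha : MinEl H a) (h₁ : Inv2 a c₁)
    (h₂ : Inv2 a c₂) (hP : a * c₁ + c₁ * a = a * c₂ + c₂ * a) (m₁ : MinEl H c₁) (m₂ : MinEl H c₂) :
    corner a c₁ (shift a c₁ c₂) * corner a c₁ (shift a c₁ c₂) ∈ rootSet H a c₁ := by
  obtain ⟨hfin, hJ⟩ := rootSet_jdiv h2 h3 h₁ ha m₁
  by_cases hn : IsNilpotent (c₁ * c₂)
  · rw [shift_eq_zero_of_nilp h2 ha h₁ h₂ hP m₁ m₂ hn, corner_zero, mul_zero]
    exact hJ.zero
  obtain ⟨y, hy, hy0, hI⟩ := opposite h2 h3 m₁ m₂ hn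
  set X := shift a c₁ c₂
  have hXr := shift_range h₁ h₂ hP
  have hz : Same H a (a * y * a) := same_mid h₂ ha m₂ hy
  have hXs : X * c₁ * a = X := by
    have h := (h₁.proj_same (shift_ker h₁ h₂ hP) hXr).2
    rwa [mul_add, ← mul_assoc, shift_mul_self_right h₁ h₂, zero_mul, zero_add, ← mul_assoc] at h
  have haX : a * c₁ * X = X := by
    have h := (h₁.proj_same (shift_ker h₁ h₂ hP) hXr).1
    rwa [add_mul, mul_assoc c₁ a, shift_mul_self_left h₁ h₂, mul_zero, add_zero] at h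
  have hmid : corner a c₁ X * corner a c₁ (a * y * a) * corner a c₁ X = -1 := by
    rw [← corner_mul h₁ hXr hz.range_le, ← corner_mul h₁ (by rintro _ ⟨v, rfl⟩; exact hXr ⟨_, rfl⟩) hXr,
      show X * c₁ * (a * y * a) * c₁ * X = X * c₁ * a * y * (a * c₁ * X) by simp only [mul_assoc], hXs, haX,
      shift_mid h₁ h₂ hP hy m₂ hI, corner_neg, corner_self h₁]
  set φ := corner a c₁ X
  set ζ := corner a c₁ (a * y * a)
  have hζ0 : ζ ≠ 0 := fun e => by
    rw [e, mul_zero, zero_mul, eq_comm, neg_eq_zero] at hmid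
    exact hJ.nontriv hmid
  obtain ⟨ζ', hζ', -, hζζ⟩ := hJ.inv ζ ⟨_, hz, rfl⟩ hζ0
  have : φ * φ = -ζ' := sq_of_mid hmid hζζ
  rw [this]
  exact hJ.neg _ hζ'

/-- the root subgroup is transitive on the opposites with a given involution -/
theorem same_shift (h2 : (2 : k) ≠ 0) (h3 : Nat.card k ≠ 3) (ha : MinEl H a) (h₁ : Inv2 a c₁)
    (h₂ : Inv2 a c₂) (hP : a * c₁ + c₁ * a = a * c₂ + c₂ * a) (m₁ : MinEl H c₁) (m₂ : MinEl H c₂) :
    Same H a (shift a c₁ c₂) := by
  obtain ⟨hfin, hJ⟩ := rootSet_jdiv h2 h3 h₁ ha m₁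
  -- the translate of `c₂` by `1 + a`
  set g := xu a ha.sq
  set c₃ := (g : End') * c₂ * (↑g⁻¹ : End') with hc₃
  have m₃ : MinEl H c₃ := m₂.conj ha.toFam.xu_mem_one
  have hv : c₃ = (1 + a) * c₂ * (1 - a) := rfl
  have hga : (g : End') * a * (↑g⁻¹ : End') = a := by
    show (1 + a) * a * (1 - a) = a
    rw [add_mul, one_mul, ha.sq, add_zero, mul_sub, mul_one, ha.sq, sub_zero]
  have conjm : ∀ p q : End', (g : End') * (p * q) * (↑g⁻¹ : End') =
      (g : End') * p * (↑g⁻¹ : End') * ((g : End') * q * (↑g⁻¹ : End')) := fun p q => by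
    simp only [mul_assoc]
    rw [← mul_assoc (↑g⁻¹ : End') (g : End'), Units.inv_mul, one_mul]
  have h₃ : Inv2 a c₃ := by
    refine ⟨ha.sq, ?_, ?_, ?_⟩
    · rw [hc₃, ← conjm, h₂.cc, mul_zero, zero_mul]
    · conv_rhs => rw [← hga, ← h₂.aca, conjm, conjm, hga]
    · conv_rhs => rw [hc₃, ← h₂.cac, conjm, conjm, hga]
  have hP3 : a * c₁ + c₁ * a = a * c₃ + c₃ * a := by
    have : a * c₃ + c₃ * a = (g : End') * (a * c₂ + c₂ * a) * (↑g⁻¹ : End') := by
      rw [mul_add, add_mul, conjm, conjm, hga]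
    rw [this, hP]
    show _ = (1 + a) * (a * c₂ + c₂ * a) * (1 - a)
    rw [add_mul 1 a, one_mul, h₂.proj_left.2, mul_sub, mul_one, add_mul (a * c₂ + c₂ * a) a a,
      h₂.proj_left.1, ha.sq, add_zero]
    abel
  have hshift : shift a c₁ c₃ = shift a c₁ c₂ + a := by
    have e : a * c₃ = a * c₂ - a := by
      rw [hv, mul_sub, mul_one, add_mul, one_mul, add_mul, mul_sub, mul_add, mul_add]
      simp only [← mul_assoc]
      rw [ha.sq, h₂.aca]
      simp
    rw [shift, shift, e]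
    abel
  have s1 := corner_shift_sq h2 h3 ha h₁ h₂ hP m₁ m₂
  have s2 := corner_shift_sq h2 h3 ha h₁ h₃ hP3 m₁ m₃
  rw [hshift, corner_add, corner_self h₁] at s2
  set φ := corner a c₁ (shift a c₁ c₂) with hφ
  have s3 : φ + φ ∈ rootSet H a c₁ := by
    have := hJ.sub (hJ.sub s2 s1) hJ.one
    rwa [show (φ + 1) * (φ + 1) - φ * φ - 1 = φ + φ by noncomm_ring] at this
  obtain ⟨w, hw, hwe⟩ := s3
  have hxa : shift a c₁ c₂ * c₁ * a = shift a c₁ c₂ := by
    have h := (h₁.proj_same (shift_ker h₁ h₂ hP) (shift_range h₁ h₂ hP)).2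
    rwa [mul_add, ← mul_assoc, shift_mul_self_right h₁ h₂, zero_mul, zero_add, ← mul_assoc] at h
  have : w = shift a c₁ c₂ + shift a c₁ c₂ := corner_inj h₁ (mul_sandwich h₁ ha hw)
    (by rw [add_mul, add_mul, hxa]) hw.range_le (by
      rintro _ ⟨v, rfl⟩
      exact add_mem (shift_range h₁ h₂ hP ⟨v, rfl⟩) (shift_range h₁ h₂ hP ⟨v, rfl⟩))
    (by rw [corner_add, hwe])
  have hhalf := hw.smul (2 : k)⁻¹
  rwa [this, ← two_smul k (shift a c₁ c₂), smul_smul, inv_mul_cancel₀ h2, one_smul] at hhalf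

end Cfsg.Lib.CoprimeZJ
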